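import Groth.Agent.H1FlatLimit.Global
import Groth.Agent.H1FlatLimit.ModDescendQS
import Groth.Agent.LimSm.Model
import Groth.Agent.GrFlat5.FlatAtIso
import Groth.Agent.QCoh.RpushStalk
import Groth.Agent.QCoh.FT

/-!
# Flat modules of finite presentation come from noetherian bases
-/

universe u

set_option autoImplicit false
set_option backward.isDefEq.respectTransparency false
set_option backward.isDefEq.respectTransparency.types false
set_option linter.style.haveILetI false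
set_option maxHeartbeats 2000000
set_option synthInstance.maxHeartbeats 200000

open CategoryTheory CategoryTheory.Limits AlgebraicGeometry TopologicalSpace Opposite
open Groth.Agent.ConsPropLib Groth.Agent.MorLib

namespace Groth.Agent.H1FlatLimit

variable {A : Type u} [CommRing A]

/-- A model over a finitely generated subring. -/
theorem exists_model_qcqs {X : Scheme.{u}} (f : X ⟶ Spec (CommRingCat.of A))
    [LocallyOfFinitePresentation f] [QuasiCompact f] [QuasiSeparated f] :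
    ∃ (A₀ : Subalgebra ℤ A) (_ : A₀.FG) (X₀ : Scheme.{u}) (f₀ : X₀ ⟶ Spec (CommRingCat.of ↥A₀)) (g : X ⟶ X₀),
      LocallyOfFinitePresentation f₀ ∧ QuasiCompact f₀ ∧ QuasiSeparated f₀ ∧
        IsPullback g f f₀ (Spec.map (CommRingCat.ofHom (algebraMap (↥A₀) A))) := by
  let D := NoethApprox.diagram (CommRingCat.of A)
  let c : Cone D := NoethApprox.cone (CommRingCat.of A)
  have hc : IsLimit c := NoethApprox.isLimit (CommRingCat.of A)
  haveI : ∀ {i j} (f : i ⟶ j), IsAffineHom (D.map f) := fun f => NoethApprox.isAffineHom_map _ f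
  haveI : ∀ i, IsAffine (D.obj i) := fun i => NoethApprox.isAffine_obj _ i
  let fc : X ⟶ c.pt := f
  haveI : LocallyOfFinitePresentation fc := ‹LocallyOfFinitePresentation f›
  haveI : QuasiCompact fc := ‹QuasiCompact f›
  haveI : QuasiSeparated fc := ‹QuasiSeparated f›
  obtain ⟨m, X₁, fm, gm, hm⟩ := hasModel hc fc
  exact ⟨Algebra.adjoin ℤ ((m.unop : Finset A) : Set A), Subalgebra.fg_adjoin_finset _, X₁, fm, gm,
    hm.lfp, hm.qc, hm.qs, hm.sq⟩

/-- A model of a module of finite presentation, flat at a point or everywhere when the module is. -/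
theorem exists_noetherian_descent {X : Scheme.{u}} (f : X ⟶ Spec (CommRingCat.of A))
    [LocallyOfFinitePresentation f] [QuasiCompact f] [QuasiSeparated f]
    (F : X.Modules) [Coh.IsQCoh F] (hF : CohB1.IsFP F) :
    ∃ (s : Finset A) (X₁ : Scheme.{u}) (f₁ : X₁ ⟶ (NoethApprox.diagram (CommRingCat.of A)).obj (op s)) (g₁ : X ⟶ X₁)
      (G : X₁.Modules), LocallyOfFinitePresentation f₁ ∧ QuasiCompact f₁ ∧ QuasiSeparated f₁ ∧
        IsPullback g₁ f f₁ ((NoethApprox.cone (CommRingCat.of A)).π.app (op s)) ∧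
        Coh.IsQCoh G ∧ CohB1.IsFT G ∧ CohB1.IsFP G ∧ Nonempty ((Scheme.Modules.pullback g₁).obj G ≅ F) := by
  obtain ⟨A₀, hA₀, X₀, f₀, g, _, _, _, hg⟩ := exists_model_qcqs f
  obtain ⟨A₁, hA₁, X₁, f₁, g₁, G, ⟨hqc, hqs⟩, hlfp, hg₁, hG, hGft, hiso⟩ :=
    exists_module_descend_qcqs A₀ hA₀ hg ‹Coh.IsQCoh F› hF
  haveI : Algebra.FiniteType ℤ ↥A₁ := (Subalgebra.fg_iff_finiteType A₁).1 hA₁
  haveI : IsNoetherianRing ↥A₁ := Algebra.FiniteType.isNoetherianRing ℤ ↥A₁
  haveI := hlfp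
  haveI : IsLocallyNoetherian X₁ := LocallyOfFiniteType.isLocallyNoetherian f₁
  obtain ⟨s, rfl⟩ := hA₁
  refine ⟨s, X₁, f₁, g₁, G, hlfp, hqc, hqs, hg₁, hG, hGft, ?_, hiso⟩
  refine QCoh.isFP_of_finitePresentation hG (fun U : X₁.affineOpens => U.1)
    (top_unique fun x _ => by
      obtain ⟨U, hU, hxU, -⟩ := exists_isAffineOpen_mem_and_subset (U := (⊤ : X₁.Opens)) (x := x) trivial
      exact Opens.mem_iSup.2 ⟨⟨U, hU⟩, hxU⟩) (fun U => U.2) fun U => ?_
  haveI : IsNoetherianRing Γ(X₁, U) := IsLocallyNoetherian.component_noetherian U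
  haveI := QCoh.finite_of_isFT hG hGft U.2
  exact Module.finitePresentation_of_finite _ _

section
variable {I : Type u} [SmallCategory I] {D : I ⥤ Scheme.{u}} {i₀ : I} {X₁ : Scheme.{u}} (f₁ : X₁ ⟶ D.obj i₀)
  (j : Over i₀)

/-- The stage of `D` inside its tautological base change. -/
noncomputable def diagStage : D.obj j.left ⟶ pullback (𝟙 (D.obj i₀)) (D.map j.hom) :=
  pullback.lift (D.map j.hom) (𝟙 _) (by simp)

theorem diagStage_fst : diagStage j ≫ pullback.fst (𝟙 (D.obj i₀)) (D.map j.hom) = D.map j.hom :=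
  pullback.lift_fst _ _ _

theorem diag_eq : pullback.fst (𝟙 (D.obj i₀)) (D.map j.hom) =
    pullback.snd (𝟙 (D.obj i₀)) (D.map j.hom) ≫ D.map j.hom := by
  rw [← pullback.condition, Category.comp_id]

end

section general

variable {I : Type u} [SmallCategory I] [IsCofiltered I] {D : I ⥤ Scheme.{u}} {c : Cone D} {i₀ : I}
  [∀ (i j : I) (φ : i ⟶ j), IsAffineHom (D.map φ)]
  {X X₁ : Scheme.{u}} {f : X ⟶ c.pt} {F : X.Modules} (f₁ : X₁ ⟶ D.obj i₀) [LocallyOfFinitePresentation f₁]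
  [QuasiCompact f₁] (g₁ : X ⟶ X₁) (hX : IsPullback g₁ f f₁ (c.π.app i₀)) (hlft : LocallyOfFiniteType f₁)
  {G : X₁.Modules} (hG : Coh.IsQCoh G) (hGft : CohB1.IsFT G) (ψ : (Scheme.Modules.pullback g₁).obj G ≅ F)

include hX hlft hG hGft ψ in
/-- The model at a stage. -/
theorem exists_stage_model (j : Over i₀) :
    ∃ (f₀ : pullback f₁ (D.map j.hom) ⟶ D.obj j.left) (_ : LocallyOfFiniteType f₀)
      (_ : QuasiCompact f₀) (_ : Coh.IsCoh ((Scheme.Modules.pullback (pullback.fst f₁ (D.map j.hom))).obj G))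
      (q : X ⟶ pullback f₁ (D.map j.hom)) (_ : IsPullback q f f₀ (c.π.app j.left))
      (_ : (Scheme.Modules.pullback q).obj ((Scheme.Modules.pullback (pullback.fst f₁ (D.map j.hom))).obj G) ≅ F),
      f₀ = pullback.snd f₁ (D.map j.hom) ∧ q ≫ pullback.fst f₁ (D.map j.hom) = g₁ := by
  let q : X ⟶ pullback f₁ (D.map j.hom) :=
    pullback.lift g₁ (f ≫ c.π.app j.left) (by rw [Category.assoc, c.w, hX.w])
  have hq₁ : q ≫ pullback.fst f₁ (D.map j.hom) = g₁ := pullback.lift_fst _ _ _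
  refine ⟨pullback.snd f₁ (D.map j.hom), inferInstance, inferInstance,
    ⟨QCoh.isQCoh_pullback _ hG, QCoh.isFT_pullback _ hG hGft⟩, q,
    IsPullback.of_right (by rw [c.w, hq₁]; exact hX) (pullback.lift_snd _ _ _) (IsPullback.of_hasPullback _ _),
    (Scheme.Modules.pullbackComp q _).app G ≪≫ (Scheme.Modules.pullbackCongr hq₁).app G ≪≫ ψ, rfl, hq₁⟩

include hX hlft hG hGft ψ in
/-- Flatness at a point comes from a model at a stage. -/
theorem exists_model_flatAt (hc : IsLimit c) (hGfp : CohB1.IsFP G) (x : X) (hx : FlatMod.IsFlatOverAt f F x) :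
    ∃ (j : Over i₀) (X₀ : Scheme.{u}) (f₀ : X₀ ⟶ D.obj j.left)
      (_ : LocallyOfFiniteType f₀) (_ : QuasiCompact f₀) (F₀ : X₀.Modules) (_ : Coh.IsCoh F₀) (q : X ⟶ X₀)
      (_ : IsPullback q f f₀ (c.π.app j.left))
      (_ : (Scheme.Modules.pullback q).obj F₀ ≅ F), FlatMod.IsFlatOverAt f₀ F₀ (q x) := by
  have hY : IsPullback (c.π.app i₀) (𝟙 c.pt) (𝟙 (D.obj i₀)) (c.π.app i₀) := IsPullback.id_vert (c.π.app i₀)
  obtain ⟨j, hj⟩ := exists_flatAt_stage hc hY hX hG hGfp x
    ((GrFlat5.isFlatOverAt_of_iso f ψ.symm x) hx)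
  obtain ⟨f₀, h₁, h₂, h₃, q, h₄, e, rfl, hq₁⟩ := exists_stage_model f₁ g₁ hX hlft hG hGft ψ j
  refine ⟨j, _, pullback.snd f₁ (D.map j.hom), h₁, h₂, _, h₃, q, h₄, e, ?_⟩
  let vX : pullback f₁ (D.map j.hom) ⟶ pullback f₁ (pullback.fst (𝟙 (D.obj i₀)) (D.map j.hom)) :=
    pullback.lift (pullback.fst _ _) (pullback.snd _ _ ≫ diagStage j)
      (by rw [pullback.condition, Category.assoc, diagStage_fst])
  refine flatAt_of_stage (vX := vX) (vY := diagStage j) (IsPullback.of_hasPullback _ _) (IsPullback.of_hasPullback _ _)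
    (diagStage_fst j) (pullback.lift_fst _ _ _) (pullback.lift_snd _ _ _) hG _ ?_
  have hv : q ≫ vX = toStageX hY hX j := by
    refine pullback.hom_ext ?_ ?_
    · rw [Category.assoc, pullback.lift_fst, hq₁, toStageX_fst]
    · rw [Category.assoc, pullback.lift_snd, toStageX_snd, ← Category.assoc, h₄.w, Category.assoc]
      refine congrArg (f ≫ ·) (pullback.hom_ext ?_ ?_)
      · rw [Category.assoc, diagStage_fst, toStage_fst, c.w]
      · rw [Category.assoc, diagStage, pullback.lift_snd, toStage_snd, Category.comp_id, Category.id_comp]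
  show FlatMod.IsFlatOverAt _ _ ((q ≫ vX) x)
  rw [hv]
  exact hj

include hX hlft hG hGft ψ in
/-- Flatness everywhere comes from a model at a stage. -/
theorem exists_model_flatOver [CompactSpace (D.obj i₀)] (hc : IsLimit c) (hGfp : CohB1.IsFP G)
    (hfl : FlatMod.IsFlatOver f F) :
    ∃ (j : Over i₀) (X₀ : Scheme.{u}) (f₀ : X₀ ⟶ D.obj j.left)
      (_ : LocallyOfFiniteType f₀) (_ : QuasiCompact f₀) (F₀ : X₀.Modules) (_ : Coh.IsCoh F₀) (q : X ⟶ X₀)
      (_ : IsPullback q f f₀ (c.π.app j.left))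
      (_ : (Scheme.Modules.pullback q).obj F₀ ≅ F), FlatMod.IsFlatOver f₀ F₀ := by
  have hY : IsPullback (c.π.app i₀) (𝟙 c.pt) (𝟙 (D.obj i₀)) (c.π.app i₀) := IsPullback.id_vert (c.π.app i₀)
  haveI : QuasiCompact (f₁ ≫ 𝟙 (D.obj i₀)) := by rw [Category.comp_id]; infer_instance
  obtain ⟨j, hj⟩ := exists_flatOver_stage f₁ (𝟙 (D.obj i₀)) hc hY hX hG hGfp fun x =>
    (GrFlat5.isFlatOverAt_of_iso f ψ.symm x) (hfl x)
  obtain ⟨f₀, h₁, h₂, h₃, q, h₄, e, rfl, hq₁⟩ := exists_stage_model f₁ g₁ hX hlft hG hGft ψ j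
  refine ⟨j, _, pullback.snd f₁ (D.map j.hom), h₁, h₂, _, h₃, q, h₄, e, fun z => ?_⟩
  let vX : pullback f₁ (D.map j.hom) ⟶ pullback (f₁ ≫ 𝟙 (D.obj i₀)) (D.map j.hom) :=
    pullback.lift (pullback.fst _ _) (pullback.snd _ _) (by rw [Category.comp_id, pullback.condition])
  have h3 : vX ≫ stageMor f₁ (𝟙 (D.obj i₀)) j = pullback.snd f₁ (D.map j.hom) ≫ diagStage j := by
    refine pullback.hom_ext ?_ ?_
    · rw [Category.assoc, Category.assoc, stageMor_fst, pullback.lift_fst_assoc, diagStage_fst, pullback.condition]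
    · rw [Category.assoc, Category.assoc, stageMor, diagStage, pullback.lift_snd, pullback.lift_snd,
        pullback.lift_snd, Category.comp_id]
  exact flatAt_of_stage (vX := vX) (vY := diagStage j) (stageMor_isPullback f₁ (𝟙 (D.obj i₀)) j)
    (IsPullback.of_hasPullback _ _) (diagStage_fst j) (pullback.lift_fst _ _ _) h3 hG z (hj (vX z))

end general

end Groth.Agent.H1FlatLimit
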