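import Groth.Agent.H1FlatLimit.Apply
import Groth.Agent.S4863
import Groth.Agent.QCoh.Pullback
import Groth.Agent.PinchLib.Scheme

/-!
# Global flatness comes from a stage
-/

universe u

set_option autoImplicit false
set_option backward.isDefEq.respectTransparency false
set_option backward.isDefEq.respectTransparency.types false
set_option linter.style.haveILetI false
set_option maxHeartbeats 2000000
set_option synthInstance.maxHeartbeats 200000

open CategoryTheory CategoryTheory.Limits AlgebraicGeometry TopologicalSpace Opposite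

namespace Groth.Agent.H1FlatLimit

variable {I : Type u} [SmallCategory I] {D : I ⥤ Scheme.{u}} {c : Cone D} {i₀ : I}
  {X₀ Y₀ : Scheme.{u}} (f₀ : X₀ ⟶ Y₀) (g₀ : Y₀ ⟶ D.obj i₀)

/-- The map of systems. -/
noncomputable def stageMor (j : Over i₀) :
    (stages D i₀ (f₀ ≫ g₀)).obj j ⟶ (stages D i₀ g₀).obj j :=
  pullback.lift (pullback.fst (f₀ ≫ g₀) (D.map j.hom) ≫ f₀) (pullback.snd (f₀ ≫ g₀) (D.map j.hom))
    (by rw [Category.assoc, pullback.condition])

theorem stageMor_fst (j : Over i₀) : stageMor f₀ g₀ j ≫ pullback.fst g₀ (D.map j.hom) =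
    pullback.fst (f₀ ≫ g₀) (D.map j.hom) ≫ f₀ :=
  pullback.lift_fst _ _ _

theorem stageMor_isPullback (j : Over i₀) : IsPullback (pullback.fst (f₀ ≫ g₀) (D.map j.hom))
    (stageMor f₀ g₀ j) f₀ (pullback.fst g₀ (D.map j.hom)) := by
  refine IsPullback.of_bot ?_ (stageMor_fst f₀ g₀ j).symm (IsPullback.of_hasPullback g₀ (D.map j.hom))
  rw [stageMor, pullback.lift_snd]
  exact IsPullback.of_hasPullback (f₀ ≫ g₀) (D.map j.hom)

theorem stageMor_naturality {j k : Over i₀} (a : j ⟶ k) :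
    (stages D i₀ (f₀ ≫ g₀)).map a ≫ stageMor f₀ g₀ k = stageMor f₀ g₀ j ≫ (stages D i₀ g₀).map a := by
  refine pullback.hom_ext ?_ ?_
  · rw [Category.assoc, Category.assoc, stageMor_fst, stages_map_fst, stageMor_fst, ← Category.assoc, stages_map_fst]
  · rw [Category.assoc, Category.assoc, stageMor, stageMor, pullback.lift_snd, stages_map, stages_map,
      pullback.lift_snd, pullback.lift_snd, pullback.lift_snd_assoc]

variable [IsCofiltered I] (hc : IsLimit c) [∀ (i j : I) (φ : i ⟶ j), IsAffineHom (D.map φ)]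
  {X Y : Scheme.{u}} {f : X ⟶ Y} {g : Y ⟶ c.pt} {qY : Y ⟶ Y₀} {qX : X ⟶ X₀}
  (hY : IsPullback qY g g₀ (c.π.app i₀)) (hX : IsPullback qX f f₀ qY) [LocallyOfFinitePresentation f₀]

include hc hY hX in
/-- Flatness everywhere comes from a stage. -/
theorem exists_flatOver_stage [CompactSpace (D.obj i₀)] [QuasiCompact (f₀ ≫ g₀)] {F : X₀.Modules}
    (hF : Coh.IsQCoh F) (hF' : CohB1.IsFP F) (h : FlatMod.IsFlatOver f ((Scheme.Modules.pullback qX).obj F)) :
    ∃ j : Over i₀, FlatMod.IsFlatOver (stageMor f₀ g₀ j)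
      ((Scheme.Modules.pullback (pullback.fst (f₀ ≫ g₀) (D.map j.hom))).obj F) := by
  have hXg : IsPullback qX (f ≫ g) (f₀ ≫ g₀) (c.π.app i₀) := hX.paste_vert hY
  let Z := stages D i₀ (f₀ ≫ g₀)
  let pZ := fun j : Over i₀ => pullback.fst (f₀ ≫ g₀) (D.map j.hom)
  haveI : ∀ j, IsAffineHom (pZ j) := fun j =>
    MorphismProperty.of_isPullback (P := @IsAffineHom) (IsPullback.of_hasPullback _ _).flip inferInstance
  haveI : CompactSpace X₀ := QuasiCompact.compactSpace_of_compactSpace (f₀ ≫ g₀)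
  haveI : ∀ j, CompactSpace (Z.obj j) := fun j => QuasiCompact.compactSpace_of_compactSpace (pZ j)
  have hlim := isLimitStages hXg hc
  haveI : CompactSpace X := Scheme.compactSpace_of_isLimit _ _ hlim
  haveI := hF
  have hopen : ∀ j : Over i₀, IsOpen {z : Z.obj j |
      FlatMod.IsFlatOverAt (stageMor f₀ g₀ j) ((Scheme.Modules.pullback (pZ j)).obj F) z} := fun j => by
    haveI : LocallyOfFinitePresentation (stageMor f₀ g₀ j) :=
      MorphismProperty.of_isPullback (P := @LocallyOfFinitePresentation) (stageMor_isPullback f₀ g₀ j) inferInstance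
    haveI := QCoh.isQCoh_pullback (pZ j) hF
    exact S4863.result _ _ (PinchLib.finitePresentation_pullback (pZ j) hF hF')
  let Ω : ∀ j : Over i₀, (Z.obj j).Opens := fun j => ⟨_, hopen j⟩
  have hback : ∀ {j k : Over i₀} (a : j ⟶ k) (z : Z.obj j), Z.map a z ∈ Ω k → z ∈ Ω j := fun {j k} a z hz =>
    flatAt_of_stage (stageMor_isPullback f₀ g₀ k) (stageMor_isPullback f₀ g₀ j)
      (stages_map_fst D i₀ g₀ a) (stages_map_fst D i₀ (f₀ ≫ g₀) a) (stageMor_naturality f₀ g₀ a) hF z hz
  have hpt : ∀ x : X, ∃ j, x ∈ toStage hXg j ⁻¹ᵁ Ω j := fun x => by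
    obtain ⟨j, hj⟩ := exists_flatAt_stage hc hY hX hF hF' x (h x)
    refine ⟨j, ?_⟩
    let e := (stageMor_isPullback f₀ g₀ j).isoPullback
    have he : toStage hXg j ≫ e.hom = toStageX hY hX j := by
      refine pullback.hom_ext ?_ ?_
      · rw [Category.assoc, IsPullback.isoPullback_hom_fst, toStage_fst, toStageX_fst]
      · rw [Category.assoc, IsPullback.isoPullback_hom_snd, toStageX_snd]
        refine pullback.hom_ext ?_ ?_
        · rw [Category.assoc, Category.assoc, stageMor_fst, toStage_fst, reassoc_of% (toStage_fst hXg j), hX.w]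
        · rw [Category.assoc, Category.assoc, stageMor, pullback.lift_snd, toStage_snd, toStage_snd, Category.assoc]
    refine flatAt_of_stage (vX := e.hom) (vY := 𝟙 _) (IsPullback.of_hasPullback f₀ _) (stageMor_isPullback f₀ g₀ j)
      (Category.id_comp _) (IsPullback.isoPullback_hom_fst _)
      ((IsPullback.isoPullback_hom_snd _).trans (Category.comp_id _).symm) hF _ ?_
    show FlatMod.IsFlatOverAt _ _ ((toStage hXg j ≫ e.hom) x)
    rw [he]
    exact hj
  obtain ⟨t, ht⟩ := isCompact_univ.elim_finite_subcover (fun j => ((toStage hXg j ⁻¹ᵁ Ω j : X.Opens) : Set X))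
    (fun j => (toStage hXg j ⁻¹ᵁ Ω j).2) (fun x _ => Set.mem_iUnion.2 (hpt x))
  classical
  haveI : Nonempty (Over i₀) := ⟨Over.mk (𝟙 i₀)⟩
  obtain ⟨k, hk⟩ := IsCofiltered.inf_objs_exists t
  have hcov : toStage hXg k ⁻¹ᵁ Ω k = ⊤ := by
    refine top_le_iff.1 fun x _ => ?_
    obtain ⟨j, hj, hxj⟩ := Set.mem_iUnion₂.1 (ht (Set.mem_univ x))
    obtain ⟨a⟩ := hk hj
    refine hback a _ ?_
    rw [← Scheme.Hom.comp_apply, show toStage hXg k ≫ Z.map a = toStage hXg j from (stagesCone hXg).w a]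
    exact hxj
  obtain ⟨l, a, hl⟩ := exists_map_eq_top Z _ hlim (Ω k) hcov
  exact ⟨l, fun z => hback a z (show z ∈ Z.map a ⁻¹ᵁ Ω k by rw [hl]; trivial)⟩

end Groth.Agent.H1FlatLimit
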