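import Groth.Agent.H1FlatLimit.Main
import Groth.Agent.QCoh.FT

/-!
# Flatness and injectivity at a point come from a stage
-/

universe u

set_option autoImplicit false
set_option backward.isDefEq.respectTransparency false
set_option backward.isDefEq.respectTransparency.types false
set_option linter.style.haveILetI false
set_option maxHeartbeats 2000000
set_option synthInstance.maxHeartbeats 200000

open CategoryTheory CategoryTheory.Limits AlgebraicGeometry TopologicalSpace Opposite TensorProduct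

namespace Groth.Agent.H1FlatLimit

variable {X₀ Y₀ : Scheme.{u}} {f₀ : X₀ ⟶ Y₀}

theorem exists_charts {Xi Yi X Y : Scheme.{u}} {fi : Xi ⟶ Yi} {pX : Xi ⟶ X₀} {pY : Yi ⟶ Y₀}
    (hXi : IsPullback pX fi f₀ pY) {f : X ⟶ Y} {qX : X ⟶ X₀} {qY : Y ⟶ Y₀} (hX : IsPullback qX f f₀ qY)
    {vX : X ⟶ Xi} {vY : Y ⟶ Yi} (h1 : vY ≫ pY = qY) (h2 : vX ≫ pX = qX) (h3 : vX ≫ fi = f ≫ vY) (x : X) :
    ∃ (V : Y₀.Opens) (_ : IsAffineOpen V) (U : X₀.Opens) (_ : IsAffineOpen U) (_ : U ≤ f₀ ⁻¹ᵁ V)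
      (Oi : Yi.Opens) (_ : IsAffineOpen Oi) (_ : Oi ≤ pY ⁻¹ᵁ V) (O : Y.Opens) (_ : IsAffineOpen O)
      (_ : O ≤ qY ⁻¹ᵁ V), O ≤ vY ⁻¹ᵁ Oi ∧ x ∈ qX ⁻¹ᵁ U ⊓ f ⁻¹ᵁ O ∧ vX x ∈ pX ⁻¹ᵁ U ⊓ fi ⁻¹ᵁ Oi ∧
        IsAffineOpen (qX ⁻¹ᵁ U ⊓ f ⁻¹ᵁ O) ∧ IsAffineOpen (pX ⁻¹ᵁ U ⊓ fi ⁻¹ᵁ Oi) := by
  obtain ⟨V, hV, hxV, -⟩ := exists_isAffineOpen_mem_and_subset (U := (⊤ : Y₀.Opens)) (x := f₀ (qX x)) trivial
  obtain ⟨U, hU, hxU, hUV⟩ := exists_isAffineOpen_mem_and_subset (U := f₀ ⁻¹ᵁ V) (x := qX x) hxV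
  have hi : (fi (vX x)) ∈ pY ⁻¹ᵁ V := by
    show (vX ≫ fi ≫ pY) x ∈ V
    rw [← hXi.w, reassoc_of% h2]
    exact hxV
  obtain ⟨Oi, hOi, hxOi, hOiV⟩ := exists_isAffineOpen_mem_and_subset (U := pY ⁻¹ᵁ V) (x := fi (vX x)) hi
  have ho : f x ∈ qY ⁻¹ᵁ V ⊓ vY ⁻¹ᵁ Oi := by
    refine ⟨?_, ?_⟩
    · show (f ≫ qY) x ∈ V
      rw [← hX.w]
      exact hxV
    · show (f ≫ vY) x ∈ Oi
      rw [← h3]
      exact hxOi
  obtain ⟨O, hO, hxO, hOV⟩ := exists_isAffineOpen_mem_and_subset (U := qY ⁻¹ᵁ V ⊓ vY ⁻¹ᵁ Oi) (x := f x) ho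
  refine ⟨V, hV, U, hU, hUV, Oi, hOi, hOiV, O, hO, fun z hz => (hOV hz).1, fun z hz => (hOV hz).2, ⟨hxU, hxO⟩,
    ⟨?_, hxOi⟩, isAffineOpen_inf hX hV hU hUV hO (fun z hz => (hOV hz).1), isAffineOpen_inf hXi hV hU hUV hOi hOiV⟩
  show (vX ≫ pX) x ∈ U
  rw [h2]
  exact hxU

/-- Injectivity with flat cokernel passes down. -/
theorem injFlat_of_stage {Xi Yi X Y : Scheme.{u}} {fi : Xi ⟶ Yi} {pX : Xi ⟶ X₀} {pY : Yi ⟶ Y₀}
    (hXi : IsPullback pX fi f₀ pY) {f : X ⟶ Y} {qX : X ⟶ X₀} {qY : Y ⟶ Y₀} (hX : IsPullback qX f f₀ qY)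
    {vX : X ⟶ Xi} {vY : Y ⟶ Yi} (h1 : vY ≫ pY = qY) (h2 : vX ≫ pX = qX) (h3 : vX ≫ fi = f ≫ vY)
    {F G : X₀.Modules} (hF : Coh.IsQCoh F) (hG : Coh.IsQCoh G) (h₀ : F ⟶ G) (x : X)
    (h : Function.Injective ((TopCat.Presheaf.stalkFunctor Ab (vX x)).map
        (Scheme.Modules.Hom.mapPresheaf ((Scheme.Modules.pullback pX).map h₀))) ∧
      FlatMod.IsFlatOverAt fi (cokernel ((Scheme.Modules.pullback pX).map h₀)) (vX x)) :
    Function.Injective ((TopCat.Presheaf.stalkFunctor Ab x).map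
        (Scheme.Modules.Hom.mapPresheaf ((Scheme.Modules.pullback qX).map h₀))) ∧
      FlatMod.IsFlatOverAt f (cokernel ((Scheme.Modules.pullback qX).map h₀)) x := by
  obtain ⟨V, hV, U, hU, hUV, Oi, hOi, hOiV, O, hO, hOV, hOO, hx, hxi, hW, hWi⟩ := exists_charts hXi hX h1 h2 h3 x
  refine (chart_good hF hG h₀ hU hO hW hx).2 ?_
  exact chart_backward hXi hX h1 h2 h3 hV hU hUV hOi hOiV hO hOV hOO (QCoh.appLin h₀ U) hx hxi hWi hW
    ((chart_good hF hG h₀ hU hOi hWi hxi).1 h)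

/-- Flatness passes down. -/
theorem flatAt_of_stage {Xi Yi X Y : Scheme.{u}} {fi : Xi ⟶ Yi} {pX : Xi ⟶ X₀} {pY : Yi ⟶ Y₀}
    (hXi : IsPullback pX fi f₀ pY) {f : X ⟶ Y} {qX : X ⟶ X₀} {qY : Y ⟶ Y₀} (hX : IsPullback qX f f₀ qY)
    {vX : X ⟶ Xi} {vY : Y ⟶ Yi} (h1 : vY ≫ pY = qY) (h2 : vX ≫ pX = qX) (h3 : vX ≫ fi = f ≫ vY)
    {F : X₀.Modules} (hF : Coh.IsQCoh F) (x : X)
    (h : FlatMod.IsFlatOverAt fi ((Scheme.Modules.pullback pX).obj F) (vX x)) :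
    FlatMod.IsFlatOverAt f ((Scheme.Modules.pullback qX).obj F) x := by
  obtain ⟨V, hV, U, hU, hUV, Oi, hOi, hOiV, O, hO, hOV, hOO, hx, hxi, hW, hWi⟩ := exists_charts hXi hX h1 h2 h3 x
  refine (chart_flatAt hF hU hO hW hx).2 ?_
  exact chart_backward hXi hX h1 h2 h3 hV hU hUV hOi hOiV hO hOV hOO _ hx hxi hWi hW
    ((chart_flatAt hF hU hOi hWi hxi).1 h)

section forward

variable {I : Type u} [SmallCategory I] [IsCofiltered I] {D : I ⥤ Scheme.{u}} {c : Cone D} (hc : IsLimit c) {i₀ : I}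
  [∀ (i j : I) (φ : i ⟶ j), IsAffineHom (D.map φ)] {g₀ : Y₀ ⟶ D.obj i₀}
  {X Y : Scheme.{u}} {f : X ⟶ Y} {g : Y ⟶ c.pt} {qY : Y ⟶ Y₀} {qX : X ⟶ X₀}
  (hY : IsPullback qY g g₀ (c.π.app i₀)) (hX : IsPullback qX f f₀ qY) [LocallyOfFinitePresentation f₀]

include hc hY in
theorem isAffineOpen_preimage_limit {V : Y₀.Opens} (hV : IsAffineOpen V) : IsAffineOpen (qY ⁻¹ᵁ V) :=
  haveI : IsAffineHom (c.π.app i₀) := isAffineHom_π_app D c hc i₀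
  haveI : IsAffineHom qY := MorphismProperty.of_isPullback (P := @IsAffineHom) hY.flip inferInstance
  hV.preimage _

include hc in
/-- Injectivity with flat cokernel at a point comes from a stage. -/
theorem exists_injFlat_stage {F G : X₀.Modules} (hF : Coh.IsQCoh F) (hG : Coh.IsQCoh G) (hF' : CohB1.IsFP F)
    (hG' : CohB1.IsFP G) (h₀ : F ⟶ G) (x : X)
    (h : Function.Injective ((TopCat.Presheaf.stalkFunctor Ab x).map
        (Scheme.Modules.Hom.mapPresheaf ((Scheme.Modules.pullback qX).map h₀))) ∧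
      FlatMod.IsFlatOverAt f (cokernel ((Scheme.Modules.pullback qX).map h₀)) x) :
    ∃ j : Over i₀, Function.Injective ((TopCat.Presheaf.stalkFunctor Ab (toStageX hY hX j x)).map
        (Scheme.Modules.Hom.mapPresheaf
          ((Scheme.Modules.pullback (pullback.fst f₀ (pullback.fst g₀ (D.map j.hom)))).map h₀))) ∧
      FlatMod.IsFlatOverAt (pullback.snd f₀ (pullback.fst g₀ (D.map j.hom)))
        (cokernel ((Scheme.Modules.pullback (pullback.fst f₀ (pullback.fst g₀ (D.map j.hom)))).map h₀))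
        (toStageX hY hX j x) := by
  haveI := hF; haveI := hG
  obtain ⟨V, hV, hxV, -⟩ := exists_isAffineOpen_mem_and_subset (U := (⊤ : Y₀.Opens)) (x := f₀ (qX x)) trivial
  obtain ⟨U, hU, hxU, hUV⟩ := exists_isAffineOpen_mem_and_subset (U := f₀ ⁻¹ᵁ V) (x := qX x) hxV
  haveI := QCoh.finitePresentation_of_isFP hF' hU
  haveI := QCoh.finitePresentation_of_isFP hG' hU
  have hO := isAffineOpen_preimage_limit hc hY hV
  have hW := isAffineOpen_inf hX hV hU hUV hO le_rfl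
  have hx : x ∈ qX ⁻¹ᵁ U ⊓ f ⁻¹ᵁ (qY ⁻¹ᵁ V) := ⟨hxU, by
    show (f ≫ qY) x ∈ V
    rw [← hX.w]
    exact hxV⟩
  obtain ⟨j, hWj, hgood⟩ := chart_forward hc hY hX hV hU hUV hO (QCoh.appLin h₀ U) hx hW
    ((chart_good hF hG h₀ hU hO hW hx).1 h)
  exact ⟨j, (chart_good hF hG h₀ hU (isAffineOpen_stageOpen hV j) hWj _).2 hgood⟩

include hc in
/-- Flatness at a point comes from a stage. -/
theorem exists_flatAt_stage {F : X₀.Modules} (hF : Coh.IsQCoh F) (hF' : CohB1.IsFP F) (x : X)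
    (h : FlatMod.IsFlatOverAt f ((Scheme.Modules.pullback qX).obj F) x) :
    ∃ j : Over i₀, FlatMod.IsFlatOverAt (pullback.snd f₀ (pullback.fst g₀ (D.map j.hom)))
      ((Scheme.Modules.pullback (pullback.fst f₀ (pullback.fst g₀ (D.map j.hom)))).obj F) (toStageX hY hX j x) := by
  haveI := hF
  obtain ⟨V, hV, hxV, -⟩ := exists_isAffineOpen_mem_and_subset (U := (⊤ : Y₀.Opens)) (x := f₀ (qX x)) trivial
  obtain ⟨U, hU, hxU, hUV⟩ := exists_isAffineOpen_mem_and_subset (U := f₀ ⁻¹ᵁ V) (x := qX x) hxV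
  haveI := QCoh.finitePresentation_of_isFP hF' hU
  have hO := isAffineOpen_preimage_limit hc hY hV
  have hW := isAffineOpen_inf hX hV hU hUV hO le_rfl
  have hx : x ∈ qX ⁻¹ᵁ U ⊓ f ⁻¹ᵁ (qY ⁻¹ᵁ V) := ⟨hxU, by
    show (f ≫ qY) x ∈ V
    rw [← hX.w]
    exact hxV⟩
  obtain ⟨j, hWj, hgood⟩ := chart_forward hc hY hX hV hU hUV hO _ hx hW ((chart_flatAt hF hU hO hW hx).1 h)
  exact ⟨j, (chart_flatAt hF hU (isAffineOpen_stageOpen hV j) hWj _).2 hgood⟩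

end forward

end Groth.Agent.H1FlatLimit
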