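import Groth.Agent.FlatSyz5.Colim
import Mathlib

/-!
# Descent to finitely presented algebras under a given one
-/

universe u

set_option autoImplicit false
set_option linter.style.haveILetI false
set_option maxHeartbeats 1000000

open MvPolynomial TensorProduct

namespace Groth.Agent.H1FlatLimit

open FlatModel FlatStrat

/-- Flatness over an algebra descends to a finitely presented algebra mapping to it. -/
theorem exists_flat_fp {A₀ : Type u} [CommRing A₀] (A : Type u) [CommRing A] [Algebra A₀ A]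
    {B₀ : Type u} [CommRing B₀] [Algebra A₀ B₀] [Algebra.FinitePresentation A₀ B₀]
    (M₀ : Type u) [AddCommGroup M₀] [Module B₀ M₀] [Module A₀ M₀] [IsScalarTower A₀ B₀ M₀]
    [Module.FinitePresentation B₀ M₀] (hflat : Module.Flat A (A ⊗[A₀] M₀)) :
    ∃ (A₁ : Type u) (_ : CommRing A₁) (_ : Algebra A₀ A₁) (_ : Algebra A₁ A), IsScalarTower A₀ A₁ A ∧
      Algebra.FinitePresentation A₀ A₁ ∧ Module.Flat A₁ (A₁ ⊗[A₀] M₀) := by
  classical
  obtain ⟨n, φ, hφ, hkerφ⟩ := Algebra.FinitePresentation.out (R := A₀) (A := B₀)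
  let := φ.toRingHom.toAlgebra
  let := Module.compHom M₀ φ.toRingHom
  have : IsScalarTower (MvPolynomial (Fin n) A₀) B₀ M₀ := ⟨fun p s m => mul_smul (φ p) s m⟩
  have : IsScalarTower A₀ (MvPolynomial (Fin n) A₀) M₀ := ⟨fun r p m => by
    show φ (r • p) • m = r • φ p • m
    rw [map_smul, smul_assoc]⟩
  have : Module.FinitePresentation (MvPolynomial (Fin n) A₀) B₀ :=
    Module.finitePresentation_of_surjective (Algebra.linearMap (MvPolynomial (Fin n) A₀) B₀) hφ hkerφ
  have : Module.FinitePresentation (MvPolynomial (Fin n) A₀) M₀ := Module.FinitePresentation.trans _ M₀ B₀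
  obtain ⟨a, π, hπ⟩ := Module.Finite.exists_fin' (MvPolynomial (Fin n) A₀) M₀
  obtain ⟨S, hS⟩ := Module.FinitePresentation.fg_ker π hπ
  let c : Finset A₀ := S.biUnion fun v => Finset.univ.biUnion fun i => (v i).coeffs
  let R₀ : Subalgebra ℤ A₀ := Algebra.adjoin ℤ (c : Set A₀)
  have : Algebra.FiniteType ℤ R₀ := (Subalgebra.fg_iff_finiteType R₀).1 (Subalgebra.fg_adjoin_finset c)
  have : IsNoetherianRing R₀ := Algebra.FiniteType.isNoetherianRing ℤ R₀
  have hGdesc : ∀ v ∈ S, ∃ w : V a n R₀, mapV (algebraMap R₀ A₀) w = v := by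
    intro v hv
    have : ∀ i, ∃ q : MvPolynomial (Fin n) R₀, MvPolynomial.map (algebraMap R₀ A₀) q = v i := fun i =>
      MvPolynomial.mem_range_map_iff_coeffs_subset.2 fun x hx =>
        ⟨⟨x, Algebra.subset_adjoin (Finset.mem_biUnion.2 ⟨v, hv, Finset.mem_biUnion.2 ⟨i, Finset.mem_univ _, hx⟩⟩)⟩, rfl⟩
    choose w hw using this
    exact ⟨w, funext hw⟩
  choose! lv hlv using hGdesc
  let K₀ : Submodule (MvPolynomial (Fin n) R₀) (V a n R₀) := Submodule.span _ (lv '' S)
  have hker : LinearMap.ker π = KK K₀ A₀ := by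
    apply le_antisymm
    · rw [← hS, Submodule.span_le]
      intro v hv
      exact Submodule.subset_span ⟨lv v, Submodule.subset_span ⟨v, hv, rfl⟩, hlv v hv⟩
    · rw [KK, Submodule.span_le]
      rintro _ ⟨w, hw, rfl⟩
      refine Submodule.span_le.2 ?_ (mapV_mem_span (algebraMap R₀ A₀) hw)
      rintro _ ⟨w, ⟨v, hv, rfl⟩, rfl⟩
      rw [hlv v hv]
      exact hS.le (Submodule.subset_span hv)
  let eM : Quot' K₀ A₀ ≃ₗ[A₀] M₀ := (Submodule.quotEquivOfEq _ (LinearMap.ker (π.restrictScalars A₀))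
    (by rw [LinearMap.ker_restrictScalars, hker])).trans ((π.restrictScalars A₀).quotKerEquivOfSurjective hπ)
  obtain ⟨eA⟩ := nonempty_quot_baseChange (R := A₀) (R' := A) K₀
  have hF : FlatC K₀ A := (flatC_iff_flat K₀).2 (by
    haveI := hflat
    haveI : Module.Flat A (Quot' K₀ A) := Module.Flat.of_linearEquiv (eA.symm.trans (eM.baseChange A₀ A _ _))
    exact Module.Flat.of_linearEquiv (Submodule.Quotient.restrictScalarsEquiv A (KK K₀ A)).symm)
  obtain ⟨R₁, hR₁, hR₁F⟩ := exists_fg_flatC K₀ hF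
  haveI : Algebra.FiniteType R₀ R₁ := (Subalgebra.fg_iff_finiteType R₁).1 hR₁
  haveI : Algebra.FinitePresentation R₀ R₁ := Algebra.FinitePresentation.of_finiteType.1 inferInstance
  let A₁ := A₀ ⊗[R₀] R₁
  letI : Algebra R₁ A₁ := Algebra.TensorProduct.rightAlgebra
  haveI : IsScalarTower R₀ R₁ A₁ := Algebra.TensorProduct.right_isScalarTower
  letI : Algebra A₁ A := (Algebra.TensorProduct.lift (Algebra.ofId A₀ A)
    (R₁.val : R₁ →ₐ[R₀] A) fun _ _ => .all _ _).toRingHom.toAlgebra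
  have htow : IsScalarTower A₀ A₁ A := IsScalarTower.of_algebraMap_eq fun a =>
    ((Algebra.TensorProduct.lift (Algebra.ofId A₀ A) (R₁.val : R₁ →ₐ[R₀] A) fun _ _ => .all _ _).commutes a).symm
  refine ⟨A₁, inferInstance, inferInstance, inferInstance, htow, inferInstance, ?_⟩
  haveI : Module.Flat R₁ (Quot' K₀ R₁) :=
    haveI := (flatC_iff_flat K₀).1 hR₁F
    Module.Flat.of_linearEquiv (Submodule.Quotient.restrictScalarsEquiv R₁ (KK K₀ R₁))
  obtain ⟨e₁⟩ := nonempty_quot_baseChange (R := R₁) (R' := A₁) K₀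
  obtain ⟨e₂⟩ := nonempty_quot_baseChange (R := A₀) (R' := A₁) K₀
  exact Module.Flat.of_linearEquiv ((eM.symm.baseChange A₀ A₁ _ _).trans (e₂.trans e₁.symm))

/-- Finitely many elements of a base change come from a finitely presented algebra. -/
theorem exists_fp_mem {A₀ : Type u} [CommRing A₀] (A : Type u) [CommRing A] [Algebra A₀ A]
    {M : Type u} [AddCommGroup M] [Module A₀ M] (y : A ⊗[A₀] M) :
    ∃ (A₁ : Type u) (_ : CommRing A₁) (_ : Algebra A₀ A₁) (φ : A₁ →ₐ[A₀] A),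
      Algebra.FinitePresentation A₀ A₁ ∧ ∃ x, φ.toLinearMap.rTensor M x = y := by
  classical
  obtain ⟨S, hS⟩ := TensorProduct.exists_finset y
  refine ⟨MvPolynomial S A₀, inferInstance, inferInstance, MvPolynomial.aeval fun p => p.1.1, inferInstance,
    ∑ p : S, MvPolynomial.X p ⊗ₜ[A₀] p.1.2, ?_⟩
  rw [map_sum, hS, ← Finset.sum_coe_sort S]
  simp

/-- Finitely many elements dying in a base change die over a finitely presented algebra. -/
theorem exists_fp_kill {A₀ : Type u} [CommRing A₀] (A : Type u) [CommRing A] [Algebra A₀ A]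
    {M : Type u} [AddCommGroup M] [Module A₀ M] {ι : Type} [Finite ι] (x : ι → M)
    (h : ∀ i, (1 : A) ⊗ₜ[A₀] x i = 0) :
    ∃ (A₁ : Type u) (_ : CommRing A₁) (_ : Algebra A₀ A₁) (_ : A₁ →ₐ[A₀] A),
      Algebra.FinitePresentation A₀ A₁ ∧ ∀ i, (1 : A₁) ⊗ₜ[A₀] x i = 0 := by
  classical
  cases nonempty_fintype ι
  let P := MvPolynomial A A₀
  let π : P →ₐ[A₀] A := MvPolynomial.aeval id
  have hπ : Function.Surjective π := fun a => ⟨MvPolynomial.X a, MvPolynomial.aeval_X id a⟩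
  let I : Submodule A₀ P := LinearMap.ker π.toLinearMap
  have hex := rTensor_exact M (LinearMap.exact_subtype_ker_map π.toLinearMap) (show Function.Surjective π.toLinearMap from hπ)
  have hy : ∀ i, ∃ T : Finset (I × M), (∑ p ∈ T, p.1.1 ⊗ₜ[A₀] p.2) = (1 : P) ⊗ₜ[A₀] x i := fun i => by
    obtain ⟨w, hw⟩ := (hex ((1 : P) ⊗ₜ x i)).1 (by simp [h i])
    obtain ⟨T, rfl⟩ := TensorProduct.exists_finset w
    exact ⟨T, by rw [← hw, map_sum]; rfl⟩
  choose T hT using hy
  let U : Finset P := Finset.univ.biUnion fun i => (T i).image fun p => p.1.1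
  let S : Finset A := U.biUnion MvPolynomial.vars
  let ρ : P →ₐ[A₀] MvPolynomial S A₀ :=
    MvPolynomial.aeval fun a => if ha : a ∈ S then MvPolynomial.X ⟨a, ha⟩ else 0
  let ψ : MvPolynomial S A₀ →ₐ[A₀] A := MvPolynomial.aeval fun a => a.1
  let J : Ideal (MvPolynomial S A₀) := Ideal.span ((U.image ρ : Finset _) : Set _)
  have hψρ : ∀ q ∈ U, ψ (ρ q) = π q := by
    intro q hq
    have h1 : (ψ.comp ρ).toRingHom q = π.toRingHom q := by
      refine MvPolynomial.hom_congr_vars ?_ ?_ rfl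
      · ext a
        exact ((ψ.comp ρ).commutes a).trans (π.commutes a).symm
      · intro a ha _
        have haS : a ∈ S := Finset.mem_biUnion.2 ⟨q, hq, ha⟩
        show ψ (ρ (MvPolynomial.X a)) = π (MvPolynomial.X a)
        rw [show ρ (MvPolynomial.X a) = MvPolynomial.X ⟨a, haS⟩ from (MvPolynomial.aeval_X _ a).trans (dif_pos haS),
          show π (MvPolynomial.X a) = a from MvPolynomial.aeval_X id a]
        exact MvPolynomial.aeval_X _ _
    exact h1
  have hU : ∀ q ∈ U, π q = 0 := by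
    intro q hq
    obtain ⟨i, -, hi⟩ := Finset.mem_biUnion.1 hq
    obtain ⟨p, -, rfl⟩ := Finset.mem_image.1 hi
    exact p.1.2
  have hJ : J ≤ RingHom.ker ψ := by
    refine Ideal.span_le.2 fun z hz => ?_
    obtain ⟨q, hq, rfl⟩ := Finset.mem_image.1 (Finset.mem_coe.1 hz)
    exact (hψρ q hq).trans (hU q hq)
  haveI : Algebra.FinitePresentation A₀ (MvPolynomial S A₀ ⧸ J) :=
    Algebra.FinitePresentation.quotient ⟨_, rfl⟩
  refine ⟨MvPolynomial S A₀ ⧸ J, inferInstance, inferInstance,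
    Ideal.Quotient.liftₐ J ψ fun a ha => hJ ha, inferInstance, fun i => ?_⟩
  let θ : P →ₐ[A₀] MvPolynomial S A₀ ⧸ J := (Ideal.Quotient.mkₐ A₀ J).comp ρ
  have h2 := congrArg (θ.toLinearMap.rTensor M) (hT i)
  rw [map_sum, LinearMap.rTensor_tmul] at h2
  rw [show (1 : MvPolynomial S A₀ ⧸ J) = θ.toLinearMap 1 from (map_one θ).symm, ← h2]
  refine Finset.sum_eq_zero fun p hp => ?_
  rw [LinearMap.rTensor_tmul, show θ.toLinearMap p.1.1 = 0 from Ideal.Quotient.eq_zero_iff_mem.2
    (Ideal.subset_span (Finset.mem_coe.2 (Finset.mem_image_of_mem ρ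
      (Finset.mem_biUnion.2 ⟨i, Finset.mem_univ _, Finset.mem_image_of_mem _ hp⟩)))), zero_tmul]

end Groth.Agent.H1FlatLimit
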