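import Groth.Agent.H1FlatLimit.Good
import Groth.Agent.H1FlatLimit.FlatFP

/-!
# Flatness near a point descends
-/

universe u

set_option autoImplicit false
set_option linter.style.haveILetI false
set_option maxHeartbeats 1000000
set_option synthInstance.maxHeartbeats 100000
set_option backward.isDefEq.respectTransparency false

open TensorProduct

namespace Groth.Agent.H1FlatLimit

section away

variable {A' A C' C C₀ P : Type u} [CommRing A'] [CommRing A] [CommRing C'] [CommRing C] [CommRing C₀]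
  [Algebra A' A] [Algebra A' C'] [Algebra A' C] [Algebra A C] [Algebra C' C]
  [IsScalarTower A' C' C] [IsScalarTower A' A C] [Algebra.IsPushout A' A C' C]
  [Algebra C₀ C'] [Algebra C₀ C] [IsScalarTower C₀ C' C] [AddCommGroup P] [Module C₀ P] (g : C')

/-- A localization of a base change, as the base change of a localization. -/
theorem flat_away_iff :
    Module.Flat A (A ⊗[A'] (Localization.Away g ⊗[C₀] P)) ↔
      Module.Flat A (Localization.Away (algebraMap C' C g) ⊗[C₀] P) := by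
  let D' := Localization.Away g
  let D := Localization.Away (algebraMap C' C g)
  letI : Algebra D' D := (Localization.awayMap (algebraMap C' C) g).toAlgebra
  have hcomm : ∀ c, algebraMap D' D (algebraMap C' D' c) = algebraMap C' D c := fun c => by
    show Localization.awayMap (algebraMap C' C) g (algebraMap C' D' c) = _
    rw [IsScalarTower.algebraMap_apply C' C D]
    exact IsLocalization.map_eq _ c
  haveI : IsScalarTower C' D' D := IsScalarTower.of_algebraMap_eq fun c => (hcomm c).symm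
  haveI : IsScalarTower C₀ D' D := IsScalarTower.of_algebraMap_eq fun c => by
    rw [IsScalarTower.algebraMap_apply C₀ C' D', hcomm, IsScalarTower.algebraMap_apply C₀ C D,
      IsScalarTower.algebraMap_apply C₀ C' C, ← IsScalarTower.algebraMap_apply C' C D]
  haveI : IsScalarTower A' D' D := IsScalarTower.of_algebraMap_eq fun c => by
    rw [IsScalarTower.algebraMap_apply A' C' D', hcomm, IsScalarTower.algebraMap_apply A' C D,
      IsScalarTower.algebraMap_apply A' C' C, ← IsScalarTower.algebraMap_apply C' C D]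
  haveI : IsScalarTower A' A D := IsScalarTower.of_algebraMap_eq fun c => by
    rw [IsScalarTower.algebraMap_apply A C D, ← IsScalarTower.algebraMap_apply A' A C]
    exact IsScalarTower.algebraMap_apply A' C D c
  haveI : IsLocalization (Algebra.algebraMapSubmonoid C (Submonoid.powers g)) D := by
    rw [Algebra.algebraMapSubmonoid, Submonoid.map_powers]; infer_instance
  haveI : Algebra.IsPushout C' C D' D := Algebra.isPushout_of_isLocalization (Submonoid.powers g) D' C D
  haveI hA : Algebra.IsPushout A' C' A C := Algebra.IsPushout.symm inferInstance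
  haveI : Algebra.IsPushout C' D' C D := Algebra.IsPushout.symm inferInstance
  haveI : Algebra.IsPushout A' A D' D := ((Algebra.IsPushout.comp_iff A' C' A C).2 this).symm
  let e : D ⊗[C₀] P ≃ₗ[A] A ⊗[A'] (D' ⊗[C₀] P) :=
    ((AlgebraTensorModule.cancelBaseChange C₀ D' D D P).restrictScalars A).symm.trans
      (Algebra.IsPushout.cancelBaseChange A' A D' D (D' ⊗[C₀] P))
  exact ⟨fun h => Module.Flat.of_linearEquiv e, fun h => Module.Flat.of_linearEquiv e.symm⟩

end away

variable {A₀ C₀ A C : Type u} [CommRing A₀] [CommRing C₀] [Algebra A₀ C₀] [CommRing A] [Algebra A₀ A]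
  [CommRing C] [Algebra A C] [Algebra C₀ C] [Algebra A₀ C] [IsScalarTower A₀ A C] [IsScalarTower A₀ C₀ C]

/-- The comparison from a stage. -/
noncomputable def toTot (A₁ : Type u) [CommRing A₁] [Algebra A₀ A₁] [Algebra A₁ A] [IsScalarTower A₀ A₁ A] :
    A₁ ⊗[A₀] C₀ →+* C :=
  (Algebra.TensorProduct.lift ((IsScalarTower.toAlgHom A₀ A C).comp (IsScalarTower.toAlgHom A₀ A₁ A))
    (IsScalarTower.toAlgHom A₀ C₀ C) fun _ _ => .all _ _).toRingHom

theorem toTot_tmul (A₁ : Type u) [CommRing A₁] [Algebra A₀ A₁] [Algebra A₁ A] [IsScalarTower A₀ A₁ A]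
    (a : A₁) (c : C₀) : toTot (C₀ := C₀) (A := A) (C := C) A₁ (a ⊗ₜ[A₀] c) = algebraMap A C (algebraMap A₁ A a) * algebraMap C₀ C c :=
  rfl

theorem pushout_stage (A₁ : Type u) [CommRing A₁] [Algebra A₀ A₁] [Algebra A₁ A] [IsScalarTower A₀ A₁ A]
    [Algebra A₁ C] [IsScalarTower A₁ A C] [Algebra.IsPushout A₀ A C₀ C] :
    letI : Algebra (A₁ ⊗[A₀] C₀) C := (toTot (A := A) A₁).toAlgebra
    letI : Algebra C₀ (A₁ ⊗[A₀] C₀) := Algebra.TensorProduct.rightAlgebra
    ∃ (_ : IsScalarTower A₁ (A₁ ⊗[A₀] C₀) C) (_ : IsScalarTower C₀ (A₁ ⊗[A₀] C₀) C),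
      Algebra.IsPushout A₁ A (A₁ ⊗[A₀] C₀) C := by
  letI : Algebra (A₁ ⊗[A₀] C₀) C := (toTot (A := A) A₁).toAlgebra
  letI : Algebra C₀ (A₁ ⊗[A₀] C₀) := Algebra.TensorProduct.rightAlgebra
  haveI t1 : IsScalarTower A₁ (A₁ ⊗[A₀] C₀) C := IsScalarTower.of_algebraMap_eq fun a => by
    show _ = toTot (A := A) A₁ (a ⊗ₜ 1)
    rw [toTot_tmul, map_one, mul_one]
    exact IsScalarTower.algebraMap_apply A₁ A C a
  haveI t2 : IsScalarTower C₀ (A₁ ⊗[A₀] C₀) C := IsScalarTower.of_algebraMap_eq fun c => by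
    show _ = toTot (A := A) A₁ (1 ⊗ₜ c)
    rw [toTot_tmul, map_one, map_one, one_mul]
  haveI : IsScalarTower A₀ (A₁ ⊗[A₀] C₀) C := IsScalarTower.of_algebraMap_eq fun a => by
    rw [IsScalarTower.algebraMap_apply A₀ A₁ (A₁ ⊗[A₀] C₀), ← IsScalarTower.algebraMap_apply A₁ (A₁ ⊗[A₀] C₀) C,
      IsScalarTower.algebraMap_apply A₁ A C, ← IsScalarTower.algebraMap_apply A₀ A₁ A,
      ← IsScalarTower.algebraMap_apply A₀ A C]
  exact ⟨t1, t2, (Algebra.IsPushout.comp_iff A₀ A₁ C₀ (A₁ ⊗[A₀] C₀)).1 ‹_›⟩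

/-- Flatness at a point descends to a neighbourhood over a finitely presented algebra. -/
theorem exists_flat_away_fp [Algebra.IsPushout A₀ A C₀ C] [Algebra.FinitePresentation A₀ C₀] {P : Type u}
    [AddCommGroup P] [Module C₀ P] [Module.FinitePresentation C₀ P] (q : PrimeSpectrum C)
    (h : Module.Flat A (Localization.AtPrime q.asIdeal ⊗[C₀] P)) :
    ∃ (A₁ : Type u) (_ : CommRing A₁) (_ : Algebra A₀ A₁) (_ : Algebra A₁ A) (_ : IsScalarTower A₀ A₁ A),
      Algebra.FinitePresentation A₀ A₁ ∧ ∃ g : A₁ ⊗[A₀] C₀, toTot (A := A) A₁ g ∉ q.asIdeal ∧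
        letI : Algebra C₀ (A₁ ⊗[A₀] C₀) := Algebra.TensorProduct.rightAlgebra
        Module.Flat A₁ (Localization.Away g ⊗[C₀] P) := by
  haveI : Algebra.FinitePresentation A C :=
    Algebra.FinitePresentation.equiv (Algebra.IsPushout.equiv A₀ A C₀ C)
  let X := C ⊗[C₀] P
  haveI : Module.Flat A (Localization.AtPrime q.asIdeal ⊗[C] X) := Module.Flat.of_linearEquiv
    ((AlgebraTensorModule.cancelBaseChange C₀ C (Localization.AtPrime q.asIdeal) (Localization.AtPrime q.asIdeal)
      P).restrictScalars A)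
  obtain ⟨g, hg, hW⟩ := FlatModel.exists_flat_nhd (R := A) X q.asIdeal
    (Module.Flat.of_linearEquiv ((LocalizedModule.equivTensorProduct q.asIdeal.primeCompl X).restrictScalars A))
  have hgflat : Module.Flat A (Localization.Away g ⊗[C₀] P) :=
    haveI := hW (Submonoid.powers g) (Submonoid.mem_powers g)
    haveI : Module.Flat A (Localization.Away g ⊗[C] X) := Module.Flat.of_linearEquiv
      ((LocalizedModule.equivTensorProduct (Submonoid.powers g) X).restrictScalars A).symm
    Module.Flat.of_linearEquiv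
      ((AlgebraTensorModule.cancelBaseChange C₀ C (Localization.Away g) (Localization.Away g) P).restrictScalars A).symm
  let e := Algebra.IsPushout.equiv A₀ A C₀ C
  obtain ⟨B, _, _, φ, hB, g', hg'⟩ := exists_fp_mem A (M := C₀) (e.symm g)
  letI : Algebra B A := φ.toRingHom.toAlgebra
  haveI : IsScalarTower A₀ B A := IsScalarTower.of_algebraMap_eq fun a => (φ.commutes a).symm
  letI : Algebra B C := ((algebraMap A C).comp φ.toRingHom).toAlgebra
  haveI : IsScalarTower B A C := IsScalarTower.of_algebraMap_eq fun _ => rfl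
  letI : Algebra (B ⊗[A₀] C₀) C := (toTot (A := A) B).toAlgebra
  letI : Algebra C₀ (B ⊗[A₀] C₀) := Algebra.TensorProduct.rightAlgebra
  obtain ⟨t1, t2, t3⟩ := pushout_stage (A₀ := A₀) (C₀ := C₀) (C := C) (A := A) B
  haveI := t1; haveI := t2; haveI := t3
  have hmap : toTot (A := A) B g' = g := by
    refine Eq.trans ?_ ((congrArg e hg').trans (e.apply_symm_apply g))
    clear hg'
    induction g' using TensorProduct.induction_on with
    | zero => simp
    | tmul a c =>
      rw [toTot_tmul, LinearMap.rTensor_tmul, Algebra.IsPushout.equiv_tmul]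
      rfl
    | add a b ha hb => simp only [map_add, ha, hb]
  let D' := Localization.Away g'
  haveI : Algebra.FinitePresentation (B ⊗[A₀] C₀) D' := IsLocalization.Away.finitePresentation g'
  haveI : Algebra.FinitePresentation B D' := Algebra.FinitePresentation.trans B (B ⊗[A₀] C₀) D'
  have hflat : Module.Flat A (A ⊗[B] (D' ⊗[C₀] P)) := by
    refine (flat_away_iff (A' := B) (A := A) (C := C) g').2 ?_
    rw [show algebraMap (B ⊗[A₀] C₀) C g' = g from hmap]
    exact hgflat
  obtain ⟨A₁, _, _, _, hA₁, hfp, hflat₁⟩ := exists_flat_fp A (B₀ := D') (D' ⊗[C₀] P) hflat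
  letI : Algebra A₀ A₁ := ((algebraMap B A₁).comp (algebraMap A₀ B)).toAlgebra
  haveI : IsScalarTower A₀ B A₁ := IsScalarTower.of_algebraMap_eq fun _ => rfl
  haveI : IsScalarTower A₀ A₁ A := IsScalarTower.of_algebraMap_eq fun a => by
    rw [IsScalarTower.algebraMap_apply A₀ B A₁, ← IsScalarTower.algebraMap_apply B A₁ A,
      ← IsScalarTower.algebraMap_apply A₀ B A]
  letI : Algebra C₀ (A₁ ⊗[A₀] C₀) := Algebra.TensorProduct.rightAlgebra
  let ψ : B ⊗[A₀] C₀ →+* A₁ ⊗[A₀] C₀ :=
    (Algebra.TensorProduct.map (IsScalarTower.toAlgHom A₀ B A₁) (AlgHom.id A₀ C₀)).toRingHom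
  letI : Algebra (B ⊗[A₀] C₀) (A₁ ⊗[A₀] C₀) := ψ.toAlgebra
  haveI : IsScalarTower B (B ⊗[A₀] C₀) (A₁ ⊗[A₀] C₀) := IsScalarTower.of_algebraMap_eq fun b => by
    show algebraMap B A₁ b ⊗ₜ[A₀] (1 : C₀) = ψ (b ⊗ₜ[A₀] (1 : C₀))
    exact (Algebra.TensorProduct.map_tmul (IsScalarTower.toAlgHom A₀ B A₁) (AlgHom.id A₀ C₀) b 1).symm
  haveI : IsScalarTower C₀ (B ⊗[A₀] C₀) (A₁ ⊗[A₀] C₀) := IsScalarTower.of_algebraMap_eq fun c => by
    show (1 : A₁) ⊗ₜ[A₀] c = ψ ((1 : B) ⊗ₜ[A₀] c)
    exact ((Algebra.TensorProduct.map_tmul (IsScalarTower.toAlgHom A₀ B A₁) (AlgHom.id A₀ C₀) 1 c).trans (by rw [map_one]; rfl)).symm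
  haveI : IsScalarTower A₀ (B ⊗[A₀] C₀) (A₁ ⊗[A₀] C₀) := IsScalarTower.of_algebraMap_eq fun a => by
    rw [IsScalarTower.algebraMap_apply A₀ B (B ⊗[A₀] C₀), ← IsScalarTower.algebraMap_apply B (B ⊗[A₀] C₀)]
    exact IsScalarTower.algebraMap_apply A₀ B _ a
  haveI : Algebra.IsPushout B A₁ (B ⊗[A₀] C₀) (A₁ ⊗[A₀] C₀) :=
    (Algebra.IsPushout.comp_iff A₀ B C₀ (B ⊗[A₀] C₀)).1 inferInstance
  refine ⟨A₁, inferInstance, inferInstance, inferInstance, inferInstance, Algebra.FinitePresentation.trans A₀ B A₁,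
    ψ g', ?_, (flat_away_iff (C := A₁ ⊗[A₀] C₀) g').1 hflat₁⟩
  have hψ : ∀ z, toTot (C₀ := C₀) (A := A) (C := C) A₁ (ψ z) = toTot (C₀ := C₀) (A := A) (C := C) B z := by
    intro z
    induction z using TensorProduct.induction_on with
    | zero => simp
    | tmul a c =>
      rw [show ψ (a ⊗ₜ c) = algebraMap B A₁ a ⊗ₜ c from Algebra.TensorProduct.map_tmul (IsScalarTower.toAlgHom A₀ B A₁) (AlgHom.id A₀ C₀) a c, toTot_tmul, toTot_tmul,
        ← IsScalarTower.algebraMap_apply B A₁ A]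
    | add a b ha hb => simp only [map_add, ha, hb]
  rw [hψ, hmap]
  exact hg

end Groth.Agent.H1FlatLimit
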