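import Groth.Agent.H1FlatLimit.AwayFP
import Groth.Agent.FlatSyz5.Kernel

/-!
# Injectivity with flat cokernel descends to a finitely presented stage
-/

universe u

set_option autoImplicit false
set_option linter.style.haveILetI false
set_option maxHeartbeats 2000000
set_option synthInstance.maxHeartbeats 200000
set_option backward.isDefEq.respectTransparency false

open TensorProduct
open Groth.Agent.H1RectCons

namespace Groth.Agent.H1FlatLimit

theorem back_smul {C L T X : Type u} [CommRing C] [CommRing L] [CommRing T] [Algebra C L] [Algebra C T]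
    [AddCommGroup X] [Module C X] (φ : L →ₐ[C] T) (t : T) (d : L) (k : L ⊗[C] X) :
    back φ (t ⊗ₜ[C] (d • k)) = back φ ((t * φ d) ⊗ₜ[C] k) := by
  induction k using TensorProduct.induction_on with
  | zero => simp
  | tmul l x => rw [smul_tmul', smul_eq_mul, back_tmul, back_tmul, map_mul, mul_assoc]
  | add a b ha hb => simp only [smul_add, tmul_add, map_add, ha, hb]

/-- What dies after tensoring comes from the kernel, when the image embeds. -/
theorem exists_of_lTensor_eq_zero {R T X Y : Type u} [CommRing R] [AddCommGroup T] [Module R T] [AddCommGroup X]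
    [Module R X] [AddCommGroup Y] [Module R Y] (w : X →ₗ[R] Y)
    (h : Function.Injective ((LinearMap.range w).subtype.lTensor T)) (z : T ⊗[R] X) (hz : w.lTensor T z = 0) :
    ∃ v, (LinearMap.ker w).subtype.lTensor T v = z := by
  have hrr : w.rangeRestrict.lTensor T z = 0 := h <| by
    rw [map_zero, ← LinearMap.comp_apply, ← LinearMap.lTensor_comp]
    exact hz
  have hexw : Function.Exact (LinearMap.ker w).subtype w.rangeRestrict := fun y =>
    ⟨fun h => ⟨⟨y, congrArg Subtype.val h⟩, rfl⟩, by rintro ⟨a, rfl⟩; exact Subtype.ext a.2⟩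
  exact ((lTensor_exact T hexw w.surjective_rangeRestrict) z).1 hrr

section killed

variable {A A' C C' T D X Y : Type u} [CommRing A] [CommRing A'] [CommRing C] [CommRing C'] [CommRing T] [CommRing D]
  [Algebra A C] [Algebra A A'] [Algebra A C'] [Algebra A' C'] [Algebra C C'] [IsScalarTower A C C']
  [IsScalarTower A A' C'] [Algebra.IsPushout A A' C C'] [Algebra C' T] [Algebra C T] [IsScalarTower C C' T]
  [Module.Flat C' T] [Algebra C D] [Algebra A D] [IsScalarTower A C D] [AddCommGroup X] [Module C X] [AddCommGroup Y]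
  [Module C Y]

theorem mk_lTensor_comm (u : X →ₗ[C] Y) (z : T ⊗[C] X) :
    (u.lTensor D).lTensor T ((TensorProduct.mk C D X 1).lTensor T z) =
      (TensorProduct.mk C D Y 1).lTensor T (u.lTensor T z) := by
  induction z using TensorProduct.induction_on with
  | zero => simp
  | tmul t y => simp
  | add a b ha hb => simp only [map_add, ha, hb]

variable (A' C') in
include A' C' in
/-- If the generators of a kernel die, a map with flat cokernel becomes injective. -/
theorem injective_of_killed (u : X →ₗ[C] Y) (φ : D →ₐ[C] T) {ι : Type} (k : ι → D ⊗[C] X)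
    (hk : LinearMap.ker (u.baseChange D) ≤ Submodule.span D (Set.range k))
    (hback : ∀ l (t : T), back φ (t ⊗ₜ[C] k l) = 0) [Module.Flat A (D ⊗[C] Y ⧸ LinearMap.range (u.lTensor D))] :
    Function.Injective (u.lTensor T) := by
  rw [injective_iff_map_eq_zero]
  intro z hz
  let w := u.lTensor D
  let R := LinearMap.range w
  haveI : Module.Flat A (D ⊗[C] Y ⧸ LinearMap.range R.subtype) := Module.Flat.of_linearEquiv
    ((Submodule.quotEquivOfEq _ _ R.range_subtype).restrictScalars A)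
  have hι := injective_of_flat_coker (A := A) A' C' (T := T) (X := R) (Y := D ⊗[C] Y) R.subtype R.injective_subtype
  have hwz : w.lTensor T ((TensorProduct.mk C D X 1).lTensor T z) = 0 :=
    (mk_lTensor_comm u z).trans (by rw [hz, map_zero])
  obtain ⟨v, hv⟩ := exists_of_lTensor_eq_zero w hι _ hwz
  rw [← back_mk φ z, ← hv]
  have key : ∀ y ∈ Submodule.span D (Set.range k), ∀ t : T, back φ (t ⊗ₜ[C] y) = 0 := by
    intro y hy
    induction hy using Submodule.span_induction with
    | mem y hy =>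
      obtain ⟨l, rfl⟩ := hy
      exact fun t => hback l t
    | zero => intro t; simp
    | add a b _ _ ha hb => intro t; rw [tmul_add, map_add, ha, hb, add_zero]
    | smul d a _ ha => intro t; rw [back_smul]; exact ha _
  clear hv
  induction v using TensorProduct.induction_on with
  | zero => simp
  | tmul t y => exact key y.1 (hk (show u.baseChange D y.1 = 0 from y.2)) t
  | add a b ha hb => rw [map_add, map_add, ha, hb, add_zero]

end killed

section kill

variable {A₁ C₁ A C X : Type u} [CommRing A₁] [CommRing C₁] [CommRing A] [CommRing C] [Algebra A₁ C₁]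
  [Algebra A₁ A] [Algebra A C] [Algebra C₁ C] [Algebra A₁ C] [IsScalarTower A₁ A C] [IsScalarTower A₁ C₁ C]
  [Algebra.IsPushout A₁ A C₁ C] [AddCommGroup X] [Module C₁ X] [Module A₁ X] [IsScalarTower A₁ C₁ X]

theorem cancel_lTensor_toSpan (x : X) (z : A ⊗[A₁] C₁) :
    (Algebra.IsPushout.cancelBaseChange A₁ A C₁ C X).symm
        (((LinearMap.toSpanSingleton C₁ X x).restrictScalars A₁).lTensor A z) =
      Algebra.IsPushout.equiv A₁ A C₁ C z • ((1 : C) ⊗ₜ[C₁] x) := by
  induction z using TensorProduct.induction_on with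
  | zero => simp
  | tmul a s =>
    rw [LinearMap.lTensor_tmul, Algebra.IsPushout.cancelBaseChange_symm_tmul, Algebra.IsPushout.equiv_tmul]
    show algebraMap A C a ⊗ₜ[C₁] (s • x) = (algebraMap A C a * algebraMap C₁ C s) • ((1 : C) ⊗ₜ[C₁] x)
    rw [smul_tmul', smul_eq_mul, mul_one, ← smul_tmul, Algebra.smul_def, mul_comm]
  | add a b ha hb => simp only [map_add, add_smul, ha, hb]

/-- Annihilation by an element of the base change descends. -/
theorem exists_kill_stage {r : ℕ} (x : Fin r → X) (c : C) (h : ∀ l, c • ((1 : C) ⊗ₜ[C₁] x l) = 0) :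
    ∃ (A₂ : Type u) (_ : CommRing A₂) (_ : Algebra A₁ A₂) (φ₂ : A₂ →ₐ[A₁] A), Algebra.FinitePresentation A₁ A₂ ∧
      ∀ (A' C' : Type u) [CommRing A'] [CommRing C'] [Algebra A₁ A'] [Algebra A' C'] [Algebra C₁ C'] [Algebra A₁ C']
        [IsScalarTower A₁ A' C'] [IsScalarTower A₁ C₁ C'] [Algebra.IsPushout A₁ A' C₁ C'] (φ' : A₂ →ₐ[A₁] A')
        (γ : C' →+* C), (∀ a, γ (algebraMap A' C' (φ' a)) = algebraMap A C (φ₂ a)) →
        (∀ s, γ (algebraMap C₁ C' s) = algebraMap C₁ C s) →
        ∃ c' : C', γ c' = c ∧ ∀ l, c' • ((1 : C') ⊗ₜ[C₁] x l) = 0 := by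
  obtain ⟨B, _, _, φ, hB, c'', hc''⟩ := exists_fp_mem A (M := C₁) ((Algebra.IsPushout.equiv A₁ A C₁ C).symm c)
  letI : Algebra B A := φ.toRingHom.toAlgebra
  haveI : IsScalarTower A₁ B A := IsScalarTower.of_algebraMap_eq fun a => (φ.commutes a).symm
  let ℓ : Fin r → (C₁ →ₗ[A₁] X) := fun l => (LinearMap.toSpanSingleton C₁ X (x l)).restrictScalars A₁
  let w : Fin r → B ⊗[A₁] X := fun l => (ℓ l).lTensor B c''
  have hnat : ∀ {R : Type u} [CommRing R] [Algebra A₁ R] (ψ : B →ₐ[A₁] R) l,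
      ψ.toLinearMap.rTensor X (w l) = (ℓ l).lTensor R (ψ.toLinearMap.rTensor C₁ c'') := fun {R} _ _ ψ l => by
    rw [← LinearMap.comp_apply, ← LinearMap.comp_apply, LinearMap.rTensor_comp_lTensor,
      LinearMap.lTensor_comp_rTensor]
  have hcancel : ∀ {R : Type u} [CommRing R] [Algebra A₁ R] [Algebra B R] [IsScalarTower A₁ B R] (z : B ⊗[A₁] X),
      AlgebraTensorModule.cancelBaseChange A₁ B R R X ((1 : R) ⊗ₜ[B] z) =
        (IsScalarTower.toAlgHom A₁ B R).toLinearMap.rTensor X z := fun {R} _ _ _ _ z => by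
    induction z using TensorProduct.induction_on with
    | zero => simp
    | tmul b y => simp [Algebra.smul_def]
    | add a b ha hb => simp only [tmul_add, map_add, ha, hb]
  have hw : ∀ l, (1 : A) ⊗ₜ[B] w l = 0 := fun l => by
    apply (AlgebraTensorModule.cancelBaseChange A₁ B A A X).injective
    rw [map_zero, hcancel, show IsScalarTower.toAlgHom A₁ B A = φ from AlgHom.ext fun _ => rfl, hnat φ l, hc'']
    apply (Algebra.IsPushout.cancelBaseChange A₁ A C₁ C X).symm.injective
    rw [map_zero, cancel_lTensor_toSpan, AlgEquiv.apply_symm_apply]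
    exact h l
  obtain ⟨A₂, _, _, φ₂, hA₂, hkill⟩ := exists_fp_kill A w hw
  letI : Algebra A₁ A₂ := ((algebraMap B A₂).comp (algebraMap A₁ B)).toAlgebra
  haveI : IsScalarTower A₁ B A₂ := IsScalarTower.of_algebraMap_eq fun _ => rfl
  refine ⟨A₂, inferInstance, inferInstance, φ₂.restrictScalars A₁, Algebra.FinitePresentation.trans A₁ B A₂, ?_⟩
  intro A' C' _ _ _ _ _ _ _ _ _ φ' γ hγA hγC
  let ψ : B →ₐ[A₁] A' := φ'.comp (IsScalarTower.toAlgHom A₁ B A₂)
  letI : Algebra B A' := ψ.toRingHom.toAlgebra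
  haveI : IsScalarTower A₁ B A' := IsScalarTower.of_algebraMap_eq fun a => (ψ.commutes a).symm
  refine ⟨Algebra.IsPushout.equiv A₁ A' C₁ C' (ψ.toLinearMap.rTensor C₁ c''), ?_, fun l => ?_⟩
  · refine Eq.trans ?_ ((congrArg (Algebra.IsPushout.equiv A₁ A C₁ C) hc'').trans (AlgEquiv.apply_symm_apply _ c))
    clear_value w
    clear hc'' hw hkill hnat w
    induction c'' using TensorProduct.induction_on with
    | zero => simp
    | tmul b s =>
      rw [LinearMap.rTensor_tmul, LinearMap.rTensor_tmul, Algebra.IsPushout.equiv_tmul, Algebra.IsPushout.equiv_tmul,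
        map_mul, hγC]
      exact congrArg (· * algebraMap C₁ C s) ((hγA (algebraMap B A₂ b)).trans (congrArg (algebraMap A C) (φ₂.commutes b)))
    | add a b ha hb => simp only [map_add, ha, hb]
  · rw [← cancel_lTensor_toSpan (x l), ← hnat ψ l]
    have h1 : (1 : A') ⊗ₜ[B] w l = 0 := by
      let f : A₂ →ₐ[B] A' := { φ'.toRingHom with commutes' := fun _ => rfl }
      have := congrArg (f.toLinearMap.rTensor (B ⊗[A₁] X)) (hkill l)
      rw [LinearMap.rTensor_tmul, map_zero] at this
      rwa [show f.toLinearMap 1 = 1 from map_one f] at this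
    have h2 := hcancel (R := A') (w l)
    rw [h1, map_zero, show IsScalarTower.toAlgHom A₁ B A' = ψ from AlgHom.ext fun _ => rfl] at h2
    rw [← h2, map_zero]

end kill

variable {A₀ C₀ A C : Type u} [CommRing A₀] [CommRing C₀] [Algebra A₀ C₀] [CommRing A] [Algebra A₀ A]
  [CommRing C] [Algebra A C] [Algebra C₀ C] [Algebra A₀ C] [IsScalarTower A₀ A C] [IsScalarTower A₀ C₀ C]
  [Algebra.IsPushout A₀ A C₀ C] [Algebra.FinitePresentation A₀ C₀]
  {M K : Type u} [AddCommGroup M] [Module C₀ M] [Module.Finite C₀ M] [AddCommGroup K] [Module C₀ K]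
  [Module.FinitePresentation C₀ K]

/-- Injectivity with flat cokernel at a point is reached over a finitely presented algebra, hence at every stage
through which that algebra maps. -/
theorem exists_good_fp (u : M →ₗ[C₀] K) (q : PrimeSpectrum C) (h : Good A u q) :
    ∃ (A₂ : Type u) (_ : CommRing A₂) (_ : Algebra A₀ A₂) (φ₂ : A₂ →ₐ[A₀] A), Algebra.FinitePresentation A₀ A₂ ∧
      ∀ (A' C' : Type u) [CommRing A'] [CommRing C'] [Algebra A₀ A'] [Algebra A' C'] [Algebra C₀ C'] [Algebra A₀ C']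
        [IsScalarTower A₀ A' C'] [IsScalarTower A₀ C₀ C'] [Algebra.IsPushout A₀ A' C₀ C'] (φ' : A₂ →ₐ[A₀] A')
        (γ : C' →+* C), (∀ a, γ (algebraMap A' C' (φ' a)) = algebraMap A C (φ₂ a)) →
        (∀ s, γ (algebraMap C₀ C' s) = algebraMap C₀ C s) → Good A' u (PrimeSpectrum.comap γ q) := by
  classical
  haveI : Module.FinitePresentation C₀ (K ⧸ LinearMap.range u) :=
    Module.finitePresentation_of_surjective _ (Submodule.mkQ_surjective _) (by
      rw [Submodule.ker_mkQ, LinearMap.range_eq_map]; exact Module.Finite.fg_top.map u)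
  obtain ⟨A₁, _, _, _, _, hA₁, g, hg, hflat⟩ := exists_flat_away_fp (A₀ := A₀) (A := A) (P := K ⧸ LinearMap.range u) q h.2
  letI : Algebra C₀ (A₁ ⊗[A₀] C₀) := Algebra.TensorProduct.rightAlgebra
  letI : Algebra A₁ C := ((algebraMap A C).comp (algebraMap A₁ A)).toAlgebra
  haveI : IsScalarTower A₁ A C := IsScalarTower.of_algebraMap_eq fun _ => rfl
  letI : Algebra (A₁ ⊗[A₀] C₀) C := (toTot (A := A) A₁).toAlgebra
  obtain ⟨t1, t2, t3⟩ := pushout_stage (A₀ := A₀) (C₀ := C₀) (C := C) (A := A) A₁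
  haveI := t1; haveI := t2; haveI := t3
  haveI : Algebra.FinitePresentation A₁ (A₁ ⊗[A₀] C₀) := inferInstance
  let C₁ := A₁ ⊗[A₀] C₀
  let D₁ := Localization.Away g
  haveI : Algebra.FinitePresentation C₁ D₁ := IsLocalization.Away.finitePresentation g
  haveI : Algebra.FinitePresentation A₁ D₁ := Algebra.FinitePresentation.trans A₁ C₁ D₁
  let X := C₁ ⊗[C₀] M
  let u₁ : X →ₗ[C₁] C₁ ⊗[C₀] K := u.baseChange C₁
  let w := u₁.lTensor D₁
  let wD := u₁.baseChange D₁
  let π₁ := (LinearMap.range u).mkQ.baseChange C₁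
  have hπ₁ : Function.Surjective π₁ := LinearMap.lTensor_surjective C₁ (Submodule.mkQ_surjective _)
  have hex₁ : Function.Exact u₁ π₁ :=
    lTensor_exact C₁ (LinearMap.exact_map_mkQ_range u) (Submodule.mkQ_surjective _)
  let πD := π₁.baseChange D₁
  have hπD : Function.Surjective πD := LinearMap.lTensor_surjective D₁ hπ₁
  have hexD : Function.Exact wD πD := lTensor_exact D₁ hex₁ hπ₁
  haveI : Module.Flat A₁ (D₁ ⊗[C₁] (C₁ ⊗[C₀] (K ⧸ LinearMap.range u))) :=
    haveI := hflat
    Module.Flat.of_linearEquiv ((AlgebraTensorModule.cancelBaseChange C₀ C₁ D₁ D₁ _).restrictScalars A₁)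
  haveI := FlatSyz5.fp_ker_of_surjective (A := A₁) πD hπD
  haveI : Module.FinitePresentation D₁ (LinearMap.range wD) := by
    rw [← LinearMap.exact_iff.1 hexD]; infer_instance
  have hfg : (LinearMap.ker wD).FG := by
    have h := Module.FinitePresentation.fg_ker (N := LinearMap.range wD) wD.rangeRestrict
      (LinearMap.surjective_rangeRestrict wD)
    rwa [LinearMap.ker_rangeRestrict] at h
  obtain ⟨r, k, hk⟩ := Submodule.fg_iff_exists_fin_generating_family.1 hfg
  have hkk : ∀ l, w (k l) = 0 := fun l => show wD (k l) = 0 from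
    hk.le (Submodule.subset_span ⟨l, rfl⟩)
  have hsurj : ∀ l, ∃ (s : Submonoid.powers g) (x : X), (s : C₁) • k l = (1 : D₁) ⊗ₜ[C₁] x := fun l => by
    obtain ⟨⟨x, s⟩, hs⟩ := IsLocalizedModule.surj (Submonoid.powers g) (TensorProduct.mk C₁ D₁ X 1) (k l)
    exact ⟨s, x, hs⟩
  choose s x hx using hsurj
  -- the generators die at `q`
  let L := Localization.AtPrime q.asIdeal
  have hgL : ∀ n : ℕ, algebraMap C₁ C (g ^ n) ∉ q.asIdeal := fun n hn => by
    rw [map_pow] at hn
    exact hg (q.isPrime.mem_of_pow_mem n hn)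
  let φL : D₁ →ₐ[C₁] L := IsLocalization.liftAlgHom (M := Submonoid.powers g) (f := Algebra.ofId C₁ L) fun y => by
    obtain ⟨n, hn⟩ := y.2
    show IsUnit (algebraMap C₁ L y)
    rw [IsScalarTower.algebraMap_apply C₁ C L, ← hn]
    exact IsLocalization.map_units L (⟨_, hgL n⟩ : q.asIdeal.primeCompl)
  have hzero : ∀ l, ∃ c : q.asIdeal.primeCompl, (c : C) • ((1 : C) ⊗ₜ[C₁] x l) = 0 := fun l => by
    have h1 : u₁.lTensor L ((1 : L) ⊗ₜ[C₁] x l) = 0 := by
      have h2 : w ((1 : D₁) ⊗ₜ[C₁] x l) = 0 := by rw [← hx l, map_smul, hkk l, smul_zero]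
      have h3 := congrArg (φL.toLinearMap.rTensor (C₁ ⊗[C₀] K)) h2
      rw [LinearMap.lTensor_tmul, LinearMap.rTensor_tmul, map_zero, AlgHom.toLinearMap_apply, map_one] at h3
      exact h3
    have h4 : (1 : L) ⊗ₜ[C₁] x l = 0 :=
      (injective_lTensor_cancel (S := C₁) (T := L) u).2 h.1 (h1.trans (map_zero _).symm)
    have h5 : (1 : L) ⊗ₜ[C] ((1 : C) ⊗ₜ[C₁] x l) = 0 := by
      apply (AlgebraTensorModule.cancelBaseChange C₁ C L L X).injective
      rw [map_zero, AlgebraTensorModule.cancelBaseChange_tmul, one_smul]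
      exact h4
    obtain ⟨c, hc⟩ := (IsLocalizedModule.eq_zero_iff q.asIdeal.primeCompl
      (TensorProduct.mk C L (C ⊗[C₁] X) 1)).1 h5
    exact ⟨c, hc⟩
  choose cc hcc using hzero
  let c : C := ∏ l, (cc l : C)
  have hcq : c ∉ q.asIdeal := fun hc => by
    obtain ⟨l, -, hl⟩ := (q.isPrime.prod_mem_iff).1 hc
    exact (cc l).2 hl
  have hc0 : ∀ l, c • ((1 : C) ⊗ₜ[C₁] x l) = 0 := fun l => by
    rw [show c = (∏ i ∈ Finset.univ.erase l, (cc i : C)) * cc l from
      (Finset.prod_erase_mul _ _ (Finset.mem_univ l)).symm, mul_smul, hcc l, smul_zero]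
  obtain ⟨A₂, _, _, φ₂, hA₂, hstage⟩ := exists_kill_stage (A₁ := A₁) (A := A) x c hc0
  letI : Algebra A₀ A₂ := ((algebraMap A₁ A₂).comp (algebraMap A₀ A₁)).toAlgebra
  haveI : IsScalarTower A₀ A₁ A₂ := IsScalarTower.of_algebraMap_eq fun _ => rfl
  refine ⟨A₂, inferInstance, inferInstance, φ₂.restrictScalars A₀, Algebra.FinitePresentation.trans A₀ A₁ A₂, ?_⟩
  intro A' C' _ _ _ _ _ _ _ _ _ φ' γ hγA hγC
  let ψ : A₁ →ₐ[A₀] A' := φ'.comp (IsScalarTower.toAlgHom A₀ A₁ A₂)
  letI : Algebra A₁ A' := ψ.toRingHom.toAlgebra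
  haveI : IsScalarTower A₀ A₁ A' := IsScalarTower.of_algebraMap_eq fun a => (ψ.commutes a).symm
  let φ'' : A₂ →ₐ[A₁] A' := { φ'.toRingHom with commutes' := fun _ => rfl }
  letI : Algebra A₁ C' := ((algebraMap A' C').comp ψ.toRingHom).toAlgebra
  haveI : IsScalarTower A₁ A' C' := IsScalarTower.of_algebraMap_eq fun _ => rfl
  let χ : C₁ →ₐ[A₀] C' := Algebra.TensorProduct.lift ((IsScalarTower.toAlgHom A₀ A' C').comp ψ)
    (IsScalarTower.toAlgHom A₀ C₀ C') fun _ _ => .all _ _
  letI : Algebra C₁ C' := χ.toRingHom.toAlgebra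
  haveI : IsScalarTower A₀ C₁ C' := IsScalarTower.of_algebraMap_eq fun a => (χ.commutes a).symm
  haveI : IsScalarTower A₁ C₁ C' := IsScalarTower.of_algebraMap_eq fun a =>
    ((Algebra.TensorProduct.lift_tmul _ _ _ a 1).trans (by rw [map_one, mul_one]; rfl)).symm
  haveI : IsScalarTower C₀ C₁ C' := IsScalarTower.of_algebraMap_eq fun a =>
    ((Algebra.TensorProduct.lift_tmul _ _ _ 1 a).trans (by rw [map_one, one_mul]; rfl)).symm
  haveI : Algebra.IsPushout A₁ A' C₁ C' := (Algebra.IsPushout.comp_iff A₀ A₁ C₀ C₁).1 ‹_›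
  have hγ1 : ∀ a : A₁, γ (algebraMap A₁ C' a) = algebraMap A C (algebraMap A₁ A a) := fun a =>
    (hγA (algebraMap A₁ A₂ a)).trans (congrArg (algebraMap A C) (φ₂.commutes a))
  have hγC₁ : ∀ z : C₁, γ (algebraMap C₁ C' z) = algebraMap C₁ C z := fun z => by
    induction z using TensorProduct.induction_on with
    | zero => simp
    | tmul a t =>
      show γ (χ (a ⊗ₜ t)) = toTot (A := A) A₁ (a ⊗ₜ t)
      rw [toTot_tmul, Algebra.TensorProduct.lift_tmul, map_mul]
      exact congrArg₂ (· * ·) (hγ1 a) (hγC t)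
    | add a b ha hb => simp only [map_add, ha, hb]
  obtain ⟨c', hc'γ, hc'⟩ := hstage A' C' φ'' γ (fun a => hγA a) hγC₁
  let q' := PrimeSpectrum.comap γ q
  let T := Localization.AtPrime q'.asIdeal
  haveI : Module.Flat C' T := IsLocalization.flat T q'.asIdeal.primeCompl
  have hgT : ∀ y : Submonoid.powers g, IsUnit (algebraMap C₁ T y) := fun y => by
    obtain ⟨n, hn⟩ := y.2
    have hmem : algebraMap C₁ C' (g ^ n) ∈ q'.asIdeal.primeCompl := fun hm => hgL n (by
      rw [← hγC₁]; exact hm)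
    rw [IsScalarTower.algebraMap_apply C₁ C' T, ← hn]
    exact IsLocalization.map_units T (⟨_, hmem⟩ : q'.asIdeal.primeCompl)
  let φ : D₁ →ₐ[C₁] T := IsLocalization.liftAlgHom (M := Submonoid.powers g) (f := Algebra.ofId C₁ T) hgT
  have hxT : ∀ l, (1 : T) ⊗ₜ[C₁] x l = 0 := fun l => by
    have hu : IsUnit (algebraMap C' T c') := IsLocalization.map_units T
      (⟨c', fun hm => hcq (by rw [← hc'γ]; exact hm)⟩ : q'.asIdeal.primeCompl)
    have h1 := congrArg ((IsScalarTower.toAlgHom C₁ C' T).toLinearMap.rTensor X) (hc' l)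
    rw [smul_tmul', smul_eq_mul, mul_one, LinearMap.rTensor_tmul, map_zero] at h1
    refine hu.smul_eq_zero.1 ?_
    rw [smul_tmul', smul_eq_mul, mul_one]
    exact h1
  refine ⟨?_, ?_⟩
  · refine (injective_lTensor_cancel (S := C₁) (T := T) u).1 ?_
    obtain ⟨e⟩ := exists_coker_equiv (A := A₁) (C := C₁) (L := D₁) u
    haveI : Module.Flat A₁ (D₁ ⊗[C₁] (C₁ ⊗[C₀] K) ⧸ LinearMap.range w) := by
      haveI := hflat
      exact Module.Flat.of_linearEquiv e
    refine injective_of_killed (A := A₁) A' C' u₁ φ k hk.ge fun l t => ?_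
    have h1 : back φ (t ⊗ₜ[C₁] ((s l : C₁) • k l)) = 0 := by
      rw [hx l, back_tmul, map_one, mul_one, ← mul_one t, ← smul_eq_mul, ← smul_tmul', hxT l, smul_zero]
    rw [tmul_smul, LinearMap.map_smul_of_tower, ← algebraMap_smul T (s l : C₁)] at h1
    exact (hgT (s l)).smul_eq_zero.1 h1
  · haveI : Module.Flat A' (T ⊗[C₁] (C₁ ⊗[C₀] (K ⧸ LinearMap.range u))) := flat_of_flat A₁ A' C' φ
    exact Module.Flat.of_linearEquiv
      ((AlgebraTensorModule.cancelBaseChange C₀ C₁ T T (K ⧸ LinearMap.range u)).restrictScalars A').symm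

end Groth.Agent.H1FlatLimit
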