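import Groth.Agent.H1FlatLimit.Good
import Groth.Agent.H1FibInj.Chart
import Groth.Agent.QCoh.PullbackBC
import Mathlib.AlgebraicGeometry.PullbackCarrier

/-!
# The dictionary on affine charts of a base change
-/

universe u

set_option autoImplicit false
set_option backward.isDefEq.respectTransparency false
set_option backward.isDefEq.respectTransparency.types false
set_option linter.style.haveILetI false
set_option maxHeartbeats 1000000

open CategoryTheory CategoryTheory.Limits AlgebraicGeometry TopologicalSpace Opposite TensorProduct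

namespace Groth.Agent.H1FlatLimit

section algebra

variable {A' C₀ C' M K M' K' : Type u} [CommRing A'] [CommRing C₀] [CommRing C'] [Algebra A' C'] [Algebra C₀ C']
  [AddCommGroup M] [Module C₀ M] [AddCommGroup K] [Module C₀ K]
  [AddCommGroup M'] [Module C' M'] [Module C₀ M'] [IsScalarTower C₀ C' M']
  [AddCommGroup K'] [Module C' K'] [Module C₀ K'] [IsScalarTower C₀ C' K']

/-- The two forms of the predicate agree on a realisation of the base change. -/
theorem concl_iff_good {lM : M →ₗ[C₀] M'} {lK : K →ₗ[C₀] K'} (hM : IsBaseChange C' lM) (hK : IsBaseChange C' lK)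
    (u : M →ₗ[C₀] K) (u' : M' →ₗ[C'] K') (hcomp : ∀ m, u' (lM m) = lK (u m)) (q : PrimeSpectrum C') :
    H1FibInj.Concl A' u' q ↔ Good A' u q := by
  let L := Localization.AtPrime q.asIdeal
  have hsq : u' ∘ₗ hM.equiv.toLinearMap = hK.equiv.toLinearMap ∘ₗ u.baseChange C' := by
    refine TensorProduct.AlgebraTensorModule.ext fun c m => ?_
    simp [hM.equiv_tmul, hK.equiv_tmul, hcomp]
  refine and_congr ?_ ?_
  · exact (H1FibInj.injective_congr_equiv hM.equiv hK.equiv hsq).symm.trans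
      (H1RectCons.injective_lTensor_cancel (S := C') (T := L) u)
  · let π' : K' →ₗ[C'] C' ⊗[C₀] (K ⧸ LinearMap.range u) :=
      (LinearMap.range u).mkQ.baseChange C' ∘ₗ hK.equiv.symm.toLinearMap
    have hs : Function.Surjective π' :=
      (LinearMap.lTensor_surjective C' (Submodule.mkQ_surjective _)).comp hK.equiv.symm.surjective
    have hex : Function.Exact (u.baseChange C') ((LinearMap.range u).mkQ.baseChange C') :=
      lTensor_exact C' (LinearMap.exact_map_mkQ_range u) (Submodule.mkQ_surjective _)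
    have hk : LinearMap.range u' = LinearMap.ker π' := by
      rw [LinearMap.ker_comp, LinearMap.exact_iff.1 hex, Submodule.comap_equiv_eq_map_symm, LinearEquiv.symm_symm,
        ← LinearMap.range_comp, ← hsq, LinearMap.range_comp, LinearEquiv.range, Submodule.map_top]
    let e₀ := (Submodule.quotEquivOfEq _ _ hk).trans (π'.quotKerEquivOfSurjective hs)
    let e : L ⊗[C'] (K' ⧸ LinearMap.range u') ≃ₗ[A'] L ⊗[C₀] (K ⧸ LinearMap.range u) :=
      ((AlgebraTensorModule.congr (LinearEquiv.refl L L) e₀).trans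
        (AlgebraTensorModule.cancelBaseChange C₀ C' L L _)).restrictScalars A'
    exact ⟨fun h => haveI := h; Module.Flat.of_linearEquiv e.symm, fun h => haveI := h; Module.Flat.of_linearEquiv e⟩

end algebra

/-- Transporting a section along an inverse image commutes with a morphism. -/
theorem pullSec_natural {X X' : Scheme.{u}} (φ : X' ⟶ X) {M N : X.Modules} (h : M ⟶ N) {V : X.Opens} {W : X'.Opens}
    (hle : W ≤ φ ⁻¹ᵁ V) (x : Γ(M, V)) :
    ((Scheme.Modules.pullback φ).map h).app W (QCoh.pullSec φ M hle x) = QCoh.pullSec φ N hle (h.app V x) := by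
  unfold QCoh.pullSec
  rw [QCoh.map_app_comm]
  refine congrArg _ ?_
  exact (congrArg (fun ψ : M ⟶ (Scheme.Modules.pushforward φ).obj ((Scheme.Modules.pullback φ).obj N) => ψ.app V x)
    ((Scheme.Modules.pullbackPushforwardAdjunction φ).unit.naturality h)).symm

variable {X S X' T : Scheme.{u}} {f : X ⟶ S} {f' : X' ⟶ T} {g' : X' ⟶ X} {h : T ⟶ S}

/-- The chart of a base change. -/
theorem isAffineOpen_inf (hc : IsPullback g' f' f h) {V : S.Opens} (hV : IsAffineOpen V) {U : X.Opens}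
    (hU : IsAffineOpen U) (hUV : U ≤ f ⁻¹ᵁ V) {O : T.Opens} (hO : IsAffineOpen O) (hOV : O ≤ h ⁻¹ᵁ V) :
    IsAffineOpen (g' ⁻¹ᵁ U ⊓ f' ⁻¹ᵁ O) := by
  haveI : IsAffine _ := hV
  haveI : IsAffine _ := hO
  haveI : IsAffine _ := hU
  exact .of_isIso (Scheme.Hom.isPullback_resLE hc hOV hUV (UY := g' ⁻¹ᵁ U ⊓ f' ⁻¹ᵁ O) rfl).isoPullback.hom

/-- Sections over the chart of a base change form a pushout. -/
theorem chart_isPushout (hc : IsPullback g' f' f h) {V : S.Opens} (hV : IsAffineOpen V) {U : X.Opens}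
    (hU : IsAffineOpen U) (hUV : U ≤ f ⁻¹ᵁ V) {O : T.Opens} (hO : IsAffineOpen O) (hOV : O ≤ h ⁻¹ᵁ V) :
    letI : Algebra Γ(S, V) Γ(X, U) := (f.appLE V U hUV).hom.toAlgebra
    letI : Algebra Γ(S, V) Γ(T, O) := (h.appLE V O hOV).hom.toAlgebra
    letI : Algebra Γ(X, U) Γ(X', g' ⁻¹ᵁ U ⊓ f' ⁻¹ᵁ O) := (g'.appLE U _ inf_le_left).hom.toAlgebra
    letI : Algebra Γ(T, O) Γ(X', g' ⁻¹ᵁ U ⊓ f' ⁻¹ᵁ O) := (f'.appLE O _ inf_le_right).hom.toAlgebra
    letI : Algebra Γ(S, V) Γ(X', g' ⁻¹ᵁ U ⊓ f' ⁻¹ᵁ O) :=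
      (f.appLE V U hUV ≫ g'.appLE U _ inf_le_left).hom.toAlgebra
    ∃ (_ : IsScalarTower Γ(S, V) Γ(X, U) Γ(X', g' ⁻¹ᵁ U ⊓ f' ⁻¹ᵁ O))
      (_ : IsScalarTower Γ(S, V) Γ(T, O) Γ(X', g' ⁻¹ᵁ U ⊓ f' ⁻¹ᵁ O)),
      Algebra.IsPushout Γ(S, V) Γ(T, O) Γ(X, U) Γ(X', g' ⁻¹ᵁ U ⊓ f' ⁻¹ᵁ O) := by
  let W : X'.Opens := g' ⁻¹ᵁ U ⊓ f' ⁻¹ᵁ O
  have hpo := (isIso_pushoutSection_iff hc hOV hUV (UY := W) rfl).mp
    (isIso_pushoutSection_of_isAffineOpen hc hOV hUV rfl hV hO hU)
  letI : Algebra Γ(S, V) Γ(X, U) := (f.appLE V U hUV).hom.toAlgebra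
  letI : Algebra Γ(S, V) Γ(T, O) := (h.appLE V O hOV).hom.toAlgebra
  letI : Algebra Γ(X, U) Γ(X', W) := (g'.appLE U W inf_le_left).hom.toAlgebra
  letI : Algebra Γ(T, O) Γ(X', W) := (f'.appLE O W inf_le_right).hom.toAlgebra
  letI : Algebra Γ(S, V) Γ(X', W) := (f.appLE V U hUV ≫ g'.appLE U W inf_le_left).hom.toAlgebra
  haveI t1 : IsScalarTower Γ(S, V) Γ(X, U) Γ(X', W) := .of_algebraMap_eq fun _ => rfl
  haveI t2 : IsScalarTower Γ(S, V) Γ(T, O) Γ(X', W) := .of_algebraMap_eq fun r => congr($(hpo.w).hom r)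
  exact ⟨t1, t2, CommRingCat.isPushout_iff_isPushout.mp hpo.flip⟩

/-- Injectivity with flat cokernel on a chart of an inverse image. -/
theorem chart_good {F G : X.Modules} (hF : Coh.IsQCoh F) (hG : Coh.IsQCoh G) (u : F ⟶ G) {U : X.Opens}
    (hU : IsAffineOpen U) {O : T.Opens} (hO : IsAffineOpen O) (hW : IsAffineOpen (g' ⁻¹ᵁ U ⊓ f' ⁻¹ᵁ O)) {x' : X'}
    (hx : x' ∈ g' ⁻¹ᵁ U ⊓ f' ⁻¹ᵁ O) :
    letI : Algebra Γ(X, U) Γ(X', g' ⁻¹ᵁ U ⊓ f' ⁻¹ᵁ O) := (g'.appLE U _ inf_le_left).hom.toAlgebra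
    letI : Algebra Γ(T, O) Γ(X', g' ⁻¹ᵁ U ⊓ f' ⁻¹ᵁ O) := (f'.appLE O _ inf_le_right).hom.toAlgebra
    ((Function.Injective ((TopCat.Presheaf.stalkFunctor Ab x').map
        (Scheme.Modules.Hom.mapPresheaf ((Scheme.Modules.pullback g').map u))) ∧
      FlatMod.IsFlatOverAt f' (cokernel ((Scheme.Modules.pullback g').map u)) x') ↔
      Good Γ(T, O) (QCoh.appLin u U) (hW.primeIdealOf ⟨x', hx⟩)) := by
  let W : X'.Opens := g' ⁻¹ᵁ U ⊓ f' ⁻¹ᵁ O
  letI : Algebra Γ(X, U) Γ(X', W) := (g'.appLE U W inf_le_left).hom.toAlgebra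
  letI : Algebra Γ(T, O) Γ(X', W) := (f'.appLE O W inf_le_right).hom.toAlgebra
  let PF := (Scheme.Modules.pullback g').obj F
  let PG := (Scheme.Modules.pullback g').obj G
  letI : Module Γ(X, U) Γ(PF, W) := Module.compHom _ (g'.appLE U W inf_le_left).hom
  letI : Module Γ(X, U) Γ(PG, W) := Module.compHom _ (g'.appLE U W inf_le_left).hom
  haveI : IsScalarTower Γ(X, U) Γ(X', W) Γ(PF, W) := .of_algebraMap_smul fun _ _ => rfl
  haveI : IsScalarTower Γ(X, U) Γ(X', W) Γ(PG, W) := .of_algebraMap_smul fun _ _ => rfl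
  let lF : Γ(F, U) →ₗ[Γ(X, U)] Γ(PF, W) :=
    { toFun := QCoh.pullSec g' F inf_le_left
      map_add' := QCoh.pullSec_add g' F inf_le_left
      map_smul' := fun r m => QCoh.pullSec_smul g' F inf_le_left r m }
  let lG : Γ(G, U) →ₗ[Γ(X, U)] Γ(PG, W) :=
    { toFun := QCoh.pullSec g' G inf_le_left
      map_add' := QCoh.pullSec_add g' G inf_le_left
      map_smul' := fun r m => QCoh.pullSec_smul g' G inf_le_left r m }
  have hbF : IsBaseChange Γ(X', W) lF :=
    QCoh.isBaseChange_pullback hU g' hW hF inf_le_left (fun _ => rfl) lF fun _ => rfl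
  have hbG : IsBaseChange Γ(X', W) lG :=
    QCoh.isBaseChange_pullback hU g' hW hG inf_le_left (fun _ => rfl) lG fun _ => rfl
  refine ((H1FibInj.chart f' ((Scheme.Modules.pullback g').map u) (QCoh.isQCoh_pullback g' hF)
    (QCoh.isQCoh_pullback g' hG) hW hO inf_le_right hx).1).trans ?_
  exact concl_iff_good hbF hbG (QCoh.appLin u U) (QCoh.appLin ((Scheme.Modules.pullback g').map u) W)
    (fun m => pullSec_natural g' u inf_le_left m) _

/-- Flatness on a chart of an inverse image. -/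
theorem chart_flatAt {F : X.Modules} (hF : Coh.IsQCoh F) {U : X.Opens}
    (hU : IsAffineOpen U) {O : T.Opens} (hO : IsAffineOpen O) (hW : IsAffineOpen (g' ⁻¹ᵁ U ⊓ f' ⁻¹ᵁ O)) {x' : X'}
    (hx : x' ∈ g' ⁻¹ᵁ U ⊓ f' ⁻¹ᵁ O) :
    letI : Algebra Γ(X, U) Γ(X', g' ⁻¹ᵁ U ⊓ f' ⁻¹ᵁ O) := (g'.appLE U _ inf_le_left).hom.toAlgebra
    letI : Algebra Γ(T, O) Γ(X', g' ⁻¹ᵁ U ⊓ f' ⁻¹ᵁ O) := (f'.appLE O _ inf_le_right).hom.toAlgebra
    (FlatMod.IsFlatOverAt f' ((Scheme.Modules.pullback g').obj F) x' ↔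
      Good Γ(T, O) (0 : PUnit.{u + 1} →ₗ[Γ(X, U)] Γ(F, U)) (hW.primeIdealOf ⟨x', hx⟩)) := by
  let W : X'.Opens := g' ⁻¹ᵁ U ⊓ f' ⁻¹ᵁ O
  letI : Algebra Γ(X, U) Γ(X', W) := (g'.appLE U W inf_le_left).hom.toAlgebra
  letI : Algebra Γ(T, O) Γ(X', W) := (f'.appLE O W inf_le_right).hom.toAlgebra
  let P := (Scheme.Modules.pullback g').obj F
  letI : Module Γ(X, U) Γ(P, W) := Module.compHom _ (g'.appLE U W inf_le_left).hom
  haveI : IsScalarTower Γ(X, U) Γ(X', W) Γ(P, W) := .of_algebraMap_smul fun _ _ => rfl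
  let l : Γ(F, U) →ₗ[Γ(X, U)] Γ(P, W) :=
    { toFun := QCoh.pullSec g' F inf_le_left
      map_add' := QCoh.pullSec_add g' F inf_le_left
      map_smul' := fun r m => QCoh.pullSec_smul g' F inf_le_left r m }
  have hb : IsBaseChange Γ(X', W) l :=
    QCoh.isBaseChange_pullback hU g' hW hF inf_le_left (fun _ => rfl) l fun _ => rfl
  let q := hW.primeIdealOf ⟨x', hx⟩
  let L := Localization.AtPrime q.asIdeal
  letI := QCoh.stalkAlg (X := X') hx
  letI := QCoh.stalkModule P hx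
  letI : Module Γ(T, O) (P.presheaf.stalk x') :=
    Module.compHom _ ((f'.appLE O W inf_le_right) ≫ X'.presheaf.germ W x' hx).hom
  haveI : IsScalarTower Γ(T, O) Γ(X', W) (P.presheaf.stalk x') := IsScalarTower.of_algebraMap_smul fun _ _ => rfl
  haveI := QCoh.isLocalizedModule_germLin (QCoh.isQCoh_pullback g' hF) hW hx
  let e : L ⊗[Γ(X, U)] (Γ(F, U) ⧸ LinearMap.range (0 : PUnit.{u + 1} →ₗ[Γ(X, U)] Γ(F, U))) ≃ₗ[Γ(T, O)]
      P.presheaf.stalk x' :=
    (((AlgebraTensorModule.congr (LinearEquiv.refl L L)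
        (Submodule.quotEquivOfEqBot _ LinearMap.range_zero)).trans
      ((AlgebraTensorModule.cancelBaseChange Γ(X, U) Γ(X', W) L L Γ(F, U)).symm.trans
        (AlgebraTensorModule.congr (LinearEquiv.refl L L) hb.equiv))).restrictScalars Γ(T, O)).trans
      ((IsLocalizedModule.linearEquiv q.asIdeal.primeCompl
        (TensorProduct.mk Γ(X', W) L Γ(P, W) 1) (QCoh.germLin P hx)).restrictScalars Γ(T, O))
  rw [QCoh.isFlatOverAt_iff f' hO inf_le_right hx]
  exact ⟨fun h => ⟨Function.injective_of_subsingleton _, haveI := h; Module.Flat.of_linearEquiv e⟩,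
    fun h => haveI := h.2; Module.Flat.of_linearEquiv e.symm⟩

end Groth.Agent.H1FlatLimit
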