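import Groth.Agent.FlatSyz5.GenFreeNil
import Groth.Agent.FlatSyz5.NilFree
import Mathlib

/-!
# A principal stratification trivialising a flat module
-/

universe u

set_option autoImplicit false
set_option linter.style.haveILetI false
set_option maxHeartbeats 1000000

open MvPolynomial TensorProduct

namespace Groth.Agent.H1FlatLimit

open FlatModel FlatStrat FlatSyz5

/-- Finitely many finitely presented pieces over which the module is free. -/
theorem exists_free_cover {R : Type u} [CommRing R] {S : Type u} [CommRing S] [Algebra R S]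
    [Algebra.FinitePresentation R S] (M : Type u) [AddCommGroup M] [Module S M] [Module R M]
    [IsScalarTower R S M] [Module.FinitePresentation S M] :
    ∃ L : Finset (Ideal R × R), (∀ x ∈ L, x.1.FG ∧ ∀ (A : Type u) [CommRing A] [Algebra R A],
      (∀ z ∈ x.1, algebraMap R A z = 0) → IsUnit (algebraMap R A x.2) → Module.Free A (A ⊗[R] M)) ∧
      ∀ q : Ideal R, q.IsPrime → ∃ x ∈ L, x.1 ≤ q ∧ x.2 ∉ q := by
  classical
  obtain ⟨n, φ, hφ, hkerφ⟩ := Algebra.FinitePresentation.out (R := R) (A := S)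
  let := φ.toRingHom.toAlgebra
  let := Module.compHom M φ.toRingHom
  have : IsScalarTower (MvPolynomial (Fin n) R) S M := ⟨fun p s m => mul_smul (φ p) s m⟩
  have : IsScalarTower R (MvPolynomial (Fin n) R) M := ⟨fun r p m => by
    show φ (r • p) • m = r • φ p • m
    rw [map_smul, smul_assoc]⟩
  have hkA : (LinearMap.ker (Algebra.linearMap (MvPolynomial (Fin n) R) S)).FG := hkerφ
  have : Module.FinitePresentation (MvPolynomial (Fin n) R) S :=
    Module.finitePresentation_of_surjective (Algebra.linearMap (MvPolynomial (Fin n) R) S) hφ hkA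
  have : Module.FinitePresentation (MvPolynomial (Fin n) R) M := Module.FinitePresentation.trans _ M S
  obtain ⟨a, π, hπ⟩ := Module.Finite.exists_fin' (MvPolynomial (Fin n) R) M
  obtain ⟨G, hG⟩ := Module.FinitePresentation.fg_ker π hπ
  let c : Finset R := G.biUnion fun v => Finset.univ.biUnion fun i => (v i).coeffs
  let R₀ : Subalgebra ℤ R := Algebra.adjoin ℤ (c : Set R)
  have : Algebra.FiniteType ℤ R₀ := (Subalgebra.fg_iff_finiteType R₀).1 (Subalgebra.fg_adjoin_finset c)
  have : IsNoetherianRing R₀ := Algebra.FiniteType.isNoetherianRing ℤ R₀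
  have hGdesc : ∀ v ∈ G, ∃ w : V a n R₀, mapV (algebraMap R₀ R) w = v := by
    intro v hv
    have : ∀ i, ∃ q : MvPolynomial (Fin n) R₀, MvPolynomial.map (algebraMap R₀ R) q = v i := fun i =>
      MvPolynomial.mem_range_map_iff_coeffs_subset.2 fun x hx =>
        ⟨⟨x, Algebra.subset_adjoin (Finset.mem_biUnion.2 ⟨v, hv, Finset.mem_biUnion.2 ⟨i, Finset.mem_univ _, hx⟩⟩)⟩, rfl⟩
    choose w hw using this
    exact ⟨w, funext hw⟩
  choose! lv hlv using hGdesc
  let K₀ : Submodule (MvPolynomial (Fin n) R₀) (V a n R₀) := Submodule.span _ (lv '' G)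
  have hker : LinearMap.ker π = KK K₀ R := by
    apply le_antisymm
    · rw [← hG, Submodule.span_le]
      intro v hv
      exact Submodule.subset_span ⟨lv v, Submodule.subset_span ⟨v, hv, rfl⟩, hlv v hv⟩
    · rw [KK, Submodule.span_le]
      rintro _ ⟨w, hw, rfl⟩
      refine Submodule.span_le.2 ?_ (mapV_mem_span (algebraMap R₀ R) hw)
      rintro _ ⟨w, ⟨v, hv, rfl⟩, rfl⟩
      rw [hlv v hv]
      exact hG.le (Submodule.subset_span hv)
  let eM : Quot' K₀ R ≃ₗ[R] M := (Submodule.quotEquivOfEq _ (LinearMap.ker (π.restrictScalars R))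
    (by rw [LinearMap.ker_restrictScalars, hker])).trans ((π.restrictScalars R).quotKerEquivOfSurjective hπ)
  obtain ⟨L₀, hL₀, hcov⟩ := exists_cover K₀ ⊥
  refine ⟨L₀.image fun x => (x.1.map (algebraMap R₀ R), algebraMap R₀ R x.2), ?_, fun q hq => ?_⟩
  · intro y hy
    obtain ⟨⟨p, f⟩, hx, rfl⟩ := Finset.mem_image.1 hy
    refine ⟨Ideal.FG.map (IsNoetherian.noetherian p) _, fun A _ _ hp hf => ?_⟩
    obtain ⟨ι, s, hindep, hgen⟩ := hL₀ _ hx
    let := (Ideal.Quotient.lift p (algebraMap R₀ A) fun z hz => hp _ (Ideal.mem_map_of_mem _ hz)).toAlgebra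
    have : IsScalarTower R₀ (R₀ ⧸ p) A := IsScalarTower.of_algebraMap_eq fun _ => rfl
    obtain ⟨e₁⟩ := nonempty_quot_baseChange (R := R) (R' := A) K₀
    obtain ⟨e₂⟩ := nonempty_quot_baseChange (R := R₀ ⧸ p) (R' := A) K₀
    let φG : (ι →₀ R₀ ⧸ p) →ₗ[R₀ ⧸ p] Quot' K₀ (R₀ ⧸ p) :=
      (Submodule.mkQ _).comp (Finsupp.linearCombination (R₀ ⧸ p) s)
    have : Module.Free A (A ⊗[R₀ ⧸ p] Quot' K₀ (R₀ ⧸ p)) := by
      refine free_baseChange_of_free φG ?_ (Ideal.Quotient.mk p f) (fun y => ?_) hf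
      · rw [injective_iff_map_eq_zero]
        intro v hv
        exact hindep v ((Submodule.Quotient.mk_eq_zero _).1 hv)
      · obtain ⟨x, rfl⟩ := Submodule.mkQ_surjective _ y
        obtain ⟨k, v, hv⟩ := hgen x
        refine ⟨k, v, ?_⟩
        rw [← LinearMap.map_smul]
        exact (Submodule.Quotient.eq _).2 hv
    exact Module.Free.of_equiv
      (((eM.symm.baseChange R A _ _).trans e₁).trans e₂.symm).symm
  · obtain ⟨x, hx, hp, hf⟩ := hcov (q.comap (algebraMap R₀ R)) (hq.comap _) bot_le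
    exact ⟨_, Finset.mem_image_of_mem _ hx, Ideal.map_le_iff_le_comap.2 hp, hf⟩

/-- The truth values of finitely many elements are constant on the pieces of a principal stratification. -/
theorem exists_separating_list {A : Type u} [CommRing A] (S : Finset A) :
    ∃ l : List A, Ideal.span {a | a ∈ l} = ⊤ ∧ ∀ (i : ℕ) (hi : i < l.length) (q q' : Ideal A),
      q.IsPrime → q'.IsPrime → l[i] ∉ q → l[i] ∉ q' → Ideal.span {a | a ∈ l.take i} ≤ q →
        Ideal.span {a | a ∈ l.take i} ≤ q' → ∀ s ∈ S, s ∈ q ↔ s ∈ q' := by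
  classical
  let Ts := S.powerset.toList.mergeSort fun T T' => decide (T'.card ≤ T.card)
  have hmem : ∀ T, T ∈ Ts ↔ T ⊆ S := fun T => by simp [Ts, List.mem_mergeSort]
  have hsorted : Ts.Pairwise fun T T' => T'.card ≤ T.card := by
    have := List.pairwise_mergeSort (le := fun T T' : Finset A => decide (T'.card ≤ T.card))
      (fun a b c h h' => decide_eq_true ((of_decide_eq_true h').trans (of_decide_eq_true h)))
      (fun a b => by simpa using le_total b.card a.card) S.powerset.toList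
    exact this.imp fun h => of_decide_eq_true h
  refine ⟨Ts.map fun T => ∏ s ∈ T, s, ?_, ?_⟩
  · refine (Ideal.eq_top_iff_one _).2 (Ideal.subset_span ?_)
    exact List.mem_map.2 ⟨∅, (hmem _).2 (Finset.empty_subset _), Finset.prod_empty⟩
  intro i hi
  have hi' : i < Ts.length := by simpa using hi
  suffices key : ∀ q : Ideal A, q.IsPrime → (Ts.map fun T => ∏ s ∈ T, s)[i] ∉ q →
      Ideal.span {a | a ∈ (Ts.map fun T => ∏ s ∈ T, s).take i} ≤ q → ∀ s ∈ S, (s ∈ q ↔ s ∉ Ts[i]) by
    intro q q' hq hq' h h' hl hl' s hs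
    rw [key q hq h hl s hs, key q' hq' h' hl' s hs]
  intro q hq h hl s hs
  rw [List.getElem_map] at h
  let Tq := S.filter fun s => s ∉ q
  have hsub : Ts[i] ⊆ Tq := fun t ht => Finset.mem_filter.2
    ⟨(hmem _).1 (List.getElem_mem hi') ht, fun htq => h (Ideal.prod_mem _ ht htq)⟩
  obtain ⟨j, hj, hjq⟩ := List.getElem_of_mem ((hmem Tq).2 (Finset.filter_subset _ _))
  have heq : Ts[i] = Tq := by
    refine Finset.eq_of_subset_of_card_le hsub ?_
    rcases lt_trichotomy j i with hlt | rfl | hgt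
    · exfalso
      have h1 : (∏ s ∈ Tq, s) ∈ q := hl (Ideal.subset_span (List.mem_take_iff_getElem.2
        ⟨j, by simp [hlt, hj], by simp [hjq]⟩))
      obtain ⟨t, ht, htq⟩ := hq.prod_mem_iff.1 h1
      exact (Finset.mem_filter.1 ht).2 htq
    · rw [hjq]
    · rw [← hjq]
      exact List.pairwise_iff_getElem.1 hsorted i j hi' hj hgt
  rw [heq, Finset.mem_filter]
  tauto

/-- A flat finitely presented module is free on the pieces of a principal stratification. -/
theorem exists_free_stratification {A B : Type u} [CommRing A] [CommRing B] [Algebra A B]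
    [Algebra.FinitePresentation A B] (M : Type u) [AddCommGroup M] [Module B M] [Module A M] [IsScalarTower A B M]
    [Module.FinitePresentation B M] [Module.Flat A M] :
    ∃ l : List A, Ideal.span {a | a ∈ l} = ⊤ ∧
      ∀ (i : ℕ) (hi : i < l.length),
        letI J : Ideal (Localization.Away l[i]) :=
          (Ideal.span {a | a ∈ l.take i}).map (algebraMap A (Localization.Away l[i]))
        Module.Free (Localization.Away l[i] ⧸ J) ((Localization.Away l[i] ⧸ J) ⊗[A] M) := by
  classical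
  obtain ⟨L, hL, hcov⟩ := exists_free_cover (S := B) M (R := A)
  choose! G hG using fun x hx => (hL x hx).1
  let S := L.biUnion fun x => insert x.2 (G x)
  obtain ⟨l, hl, hsep⟩ := exists_separating_list S
  refine ⟨l, hl, fun i hi => ?_⟩
  let I := Ideal.span {a | a ∈ l.take i}
  let R' := Localization.Away l[i] ⧸ I.map (algebraMap A (Localization.Away l[i]))
  show Module.Free R' (R' ⊗[A] M)
  rcases subsingleton_or_nontrivial R' with h | h
  · haveI : Subsingleton (R' ⊗[A] M) := Module.subsingleton R' _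
    infer_instance
  have hprime : ∀ 𝔭 : Ideal R', 𝔭.IsPrime → l[i] ∉ 𝔭.comap (algebraMap A R') ∧ I ≤ 𝔭.comap (algebraMap A R') := by
    intro 𝔭 h𝔭
    refine ⟨fun hmem => h𝔭.ne_top (Ideal.eq_top_of_isUnit_mem _ hmem ?_), fun a ha => ?_⟩
    · rw [IsScalarTower.algebraMap_apply A (Localization.Away l[i]) R']
      exact (IsLocalization.Away.algebraMap_isUnit l[i]).map _
    · rw [Ideal.mem_comap, IsScalarTower.algebraMap_apply A (Localization.Away l[i]) R',
        show algebraMap (Localization.Away l[i]) R' (algebraMap A (Localization.Away l[i]) a) = 0 from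
          Ideal.Quotient.eq_zero_iff_mem.2 (Ideal.mem_map_of_mem _ ha)]
      exact 𝔭.zero_mem
  obtain ⟨𝔪, h𝔪⟩ := Ideal.exists_maximal R'
  let q := 𝔪.comap (algebraMap A R')
  have hq : q.IsPrime := Ideal.IsPrime.comap (algebraMap A R')
  obtain ⟨⟨P, f⟩, hx, hPq, hfq⟩ := hcov q hq
  have hall : ∀ 𝔭 : Ideal R', 𝔭.IsPrime → ∀ s ∈ S, s ∈ q ↔ algebraMap A R' s ∈ 𝔭 := fun 𝔭 h𝔭 s hs =>
    hsep i hi q _ hq (h𝔭.comap _) (hprime 𝔪 h𝔪.isPrime).1 (hprime 𝔭 h𝔭).1 (hprime 𝔪 h𝔪.isPrime).2
      (hprime 𝔭 h𝔭).2 s hs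
  let N := P.map (algebraMap A R')
  have hN : IsNilpotent N := by
    refine (Ideal.FG.isNilpotent_iff_le_nilradical ((hL _ hx).1.map _)).2 ?_
    show P.map (algebraMap A R') ≤ nilradical R'
    refine Ideal.map_le_iff_le_comap.2 ((hG (P, f) hx).ge.trans (Submodule.span_le.2 fun z hz => ?_))
    show algebraMap A R' z ∈ nilradical R'
    rw [nilradical_eq_sInf, Ideal.mem_sInf]
    intro 𝔭 h𝔭
    refine (hall 𝔭 h𝔭 z (Finset.mem_biUnion.2 ⟨_, hx, Finset.mem_insert_of_mem hz⟩)).1 (hPq ?_)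
    exact (hG (P, f) hx).le (Submodule.subset_span hz)
  have hf : IsUnit (algebraMap A R' f) := by
    by_contra hnu
    obtain ⟨𝔭, h𝔭, hf𝔭⟩ := exists_max_ideal_of_mem_nonunits hnu
    exact hfq ((hall 𝔭 h𝔭.isPrime f (Finset.mem_biUnion.2 ⟨_, hx, Finset.mem_insert_self _ _⟩)).2 hf𝔭)
  haveI hfree := (hL _ hx).2 (R' ⧸ N) (fun z hz => by
    rw [IsScalarTower.algebraMap_apply A R' (R' ⧸ N)]
    exact Ideal.Quotient.eq_zero_iff_mem.2 (Ideal.mem_map_of_mem _ hz)) (by
    rw [IsScalarTower.algebraMap_apply A R' (R' ⧸ N)]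
    exact hf.map _)
  haveI : Module.Free (R' ⧸ N) ((R' ⧸ N) ⊗[R'] (R' ⊗[A] M)) :=
    Module.Free.of_equiv (AlgebraTensorModule.cancelBaseChange A R' (R' ⧸ N) (R' ⧸ N) M).symm
  obtain ⟨I₀, hI₀⟩ := exists_ideal_free_iff (M := R' ⊗[A] M) N hN inferInstance
  haveI := (hI₀ R').1 ((hI₀ R').2 inferInstance)
  exact Module.Free.of_equiv (TensorProduct.lid R' (R' ⊗[A] M))

end Groth.Agent.H1FlatLimit
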