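import Groth.Agent.H1FlatLimit.Transfer

/-!
# The predicate and its behaviour under base change
-/

universe u

set_option autoImplicit false
set_option linter.style.haveILetI false
set_option maxHeartbeats 1000000
set_option synthInstance.maxHeartbeats 100000

open TensorProduct
open Groth.Agent.H1RectCons

namespace Groth.Agent.H1FlatLimit

/-- The cokernel of a map of modules, localized at `q`, is flat over `A` and the map is injective there. -/
def Good (A : Type u) {C C₀ M K : Type u} [CommRing A] [CommRing C] [CommRing C₀] [Algebra A C] [Algebra C₀ C]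
    [AddCommGroup M] [Module C₀ M] [AddCommGroup K] [Module C₀ K] (u : M →ₗ[C₀] K) (q : PrimeSpectrum C) : Prop :=
  Function.Injective (u.lTensor (Localization.AtPrime q.asIdeal)) ∧
    Module.Flat A (Localization.AtPrime q.asIdeal ⊗[C₀] (K ⧸ LinearMap.range u))

theorem exists_coker_equiv {A C L M K C₀ : Type u} [CommRing A] [CommRing C] [CommRing L] [CommRing C₀]
    [Algebra C₀ C] [Algebra C L] [Algebra C₀ L] [IsScalarTower C₀ C L] [Algebra A L]
    [AddCommGroup M] [Module C₀ M] [AddCommGroup K] [Module C₀ K] (u : M →ₗ[C₀] K) [Algebra A C] [IsScalarTower A C L] :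
    Nonempty ((L ⊗[C] (C ⊗[C₀] K) ⧸ LinearMap.range ((u.baseChange C).lTensor L)) ≃ₗ[A]
      L ⊗[C₀] (K ⧸ LinearMap.range u)) := by
  let π := ((LinearMap.range u).mkQ.baseChange C).lTensor L
  have h1 : Function.Surjective ((LinearMap.range u).mkQ.baseChange C) :=
    LinearMap.lTensor_surjective C (Submodule.mkQ_surjective _)
  have h2 : Function.Exact (u.baseChange C) ((LinearMap.range u).mkQ.baseChange C) :=
    lTensor_exact C (LinearMap.exact_map_mkQ_range u) (Submodule.mkQ_surjective _)
  have h3 := lTensor_exact L h2 h1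
  exact ⟨((Submodule.quotEquivOfEq _ _ (LinearMap.exact_iff.1 h3).symm).trans
    (π.quotKerEquivOfSurjective (LinearMap.lTensor_surjective L h1))).restrictScalars A |>.trans
      ((AlgebraTensorModule.cancelBaseChange C₀ C L L (K ⧸ LinearMap.range u)).restrictScalars A)⟩

variable {A A' C C' C₀ M K : Type u} [CommRing A] [CommRing A'] [CommRing C] [CommRing C'] [CommRing C₀]
  [Algebra A C] [Algebra A A'] [Algebra A C'] [Algebra A' C'] [Algebra C C'] [IsScalarTower A C C']
  [IsScalarTower A A' C'] [Algebra.IsPushout A A' C C'] [Algebra C₀ C] [Algebra C₀ C'] [IsScalarTower C₀ C C']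
  [AddCommGroup M] [Module C₀ M] [AddCommGroup K] [Module C₀ K]

omit [Algebra.IsPushout A A' C C'] in
/-- The map between the local rings. -/
theorem exists_localHom (q' : PrimeSpectrum C') :
    Nonempty (Localization.AtPrime (PrimeSpectrum.comap (algebraMap C C') q').asIdeal →ₐ[C]
      Localization.AtPrime q'.asIdeal) :=
  ⟨IsLocalization.liftAlgHom (M := (PrimeSpectrum.comap (algebraMap C C') q').asIdeal.primeCompl)
    (f := Algebra.ofId C (Localization.AtPrime q'.asIdeal))
    fun y => IsLocalization.map_units (Localization.AtPrime q'.asIdeal)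
      (⟨algebraMap C C' y.1, y.2⟩ : q'.asIdeal.primeCompl)⟩

/-- Injectivity with flat cokernel is inherited along base change. -/
theorem Good.baseChange {u : M →ₗ[C₀] K} (q' : PrimeSpectrum C')
    (h : Good A u (PrimeSpectrum.comap (algebraMap C C') q')) : Good A' u q' := by
  let q := PrimeSpectrum.comap (algebraMap C C') q'
  let L := Localization.AtPrime q.asIdeal
  let T := Localization.AtPrime q'.asIdeal
  obtain ⟨φ⟩ := exists_localHom (C := C) q'
  obtain ⟨hinj, hflat⟩ := h
  haveI : Module.Flat C' T := IsLocalization.flat T q'.asIdeal.primeCompl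
  constructor
  · let w := (u.baseChange C).lTensor L
    have hw : Function.Injective w := (injective_lTensor_cancel (S := C) (T := L) u).2 hinj
    obtain ⟨e⟩ := exists_coker_equiv (A := A) (C := C) (L := L) u
    haveI : Module.Flat A (L ⊗[C] (C ⊗[C₀] K) ⧸ LinearMap.range w) := Module.Flat.of_linearEquiv e
    have h1 := injective_of_flat_coker (A := A) A' C' (T := T) w hw
    exact (injective_lTensor_cancel (S := C) (T := T) u).1 (injective_of_factor φ (u.baseChange C) h1)
  · haveI : Module.Flat A (L ⊗[C] (C ⊗[C₀] (K ⧸ LinearMap.range u))) :=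
      Module.Flat.of_linearEquiv
        ((AlgebraTensorModule.cancelBaseChange C₀ C L L (K ⧸ LinearMap.range u)).restrictScalars A)
    haveI : Module.Flat A' (T ⊗[C] (C ⊗[C₀] (K ⧸ LinearMap.range u))) := flat_of_flat A A' C' φ
    exact Module.Flat.of_linearEquiv
      ((AlgebraTensorModule.cancelBaseChange C₀ C T T (K ⧸ LinearMap.range u)).restrictScalars A').symm

end Groth.Agent.H1FlatLimit
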