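import Mathlib

/-!
# Maps from finitely presented algebras into a filtered colimit of rings
-/

universe u v

set_option autoImplicit false
set_option linter.style.haveILetI false

open CategoryTheory

namespace Groth.Agent.H1FlatLimit

/-- A finitely presented algebra over the colimit factors through a stage. -/
theorem exists_stage_lift {J : Type u} [Category.{v} J] [IsCofiltered J] (R : J → Type u) [∀ j, CommRing (R j)]
    (r : ∀ {j k : J}, (j ⟶ k) → (R k →+* R j))
    (hcomp : ∀ {j k l : J} (a : j ⟶ k) (b : k ⟶ l), (r a).comp (r b) = r (a ≫ b))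
    {A₀ A : Type u} [CommRing A₀] [CommRing A] [Algebra A₀ A] (σ : ∀ j, A₀ →+* R j)
    (hσ : ∀ {j k : J} (a : j ⟶ k), (r a).comp (σ k) = σ j) (π : ∀ j, R j →+* A)
    (hπ : ∀ {j k : J} (a : j ⟶ k), (π j).comp (r a) = π k) (hπσ : ∀ j, (π j).comp (σ j) = algebraMap A₀ A)
    (hsurj : ∀ s, ∃ j t, π j t = s) (hinj : ∀ j t, π j t = 0 → ∃ (k : J) (a : k ⟶ j), r a t = 0)
    {A₂ : Type u} [CommRing A₂] [Algebra A₀ A₂] [Algebra.FinitePresentation A₀ A₂] (φ : A₂ →ₐ[A₀] A) :
    ∃ (j : J) (ψ : A₂ →+* R j), ψ.comp (algebraMap A₀ A₂) = σ j ∧ (π j).comp ψ = φ.toRingHom := by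
  classical
  obtain ⟨n, θ, hθ, ⟨S, hS⟩⟩ := Algebra.FinitePresentation.out (R := A₀) (A := A₂)
  choose jj tt htt using fun i : Fin n => hsurj (φ (θ (MvPolynomial.X i)))
  haveI : Nonempty J := IsCofiltered.nonempty
  obtain ⟨j₁, hj₁⟩ := IsCofiltered.inf_objs_exists (Finset.univ.image jj)
  let a₁ : ∀ i, j₁ ⟶ jj i := fun i => (hj₁ (Finset.mem_image_of_mem jj (Finset.mem_univ i))).some
  let ev : ∀ {k : J}, (k ⟶ j₁) → (MvPolynomial (Fin n) A₀ →+* R k) := fun {k} a =>
    MvPolynomial.eval₂Hom (σ k) fun i => r (a ≫ a₁ i) (tt i)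
  have hevπ : ∀ {k : J} (a : k ⟶ j₁) q, π k (ev a q) = φ (θ q) := fun {k} a q => by
    refine RingHom.congr_fun (f := (π k).comp (ev a)) (g := φ.toRingHom.comp θ.toRingHom) ?_ q
    refine MvPolynomial.ringHom_ext (fun x => ?_) fun i => ?_
    · show π k (ev a (MvPolynomial.C x)) = φ (θ (MvPolynomial.C x))
      rw [show ev a (MvPolynomial.C x) = σ k x from MvPolynomial.eval₂Hom_C _ _ x,
        show θ (MvPolynomial.C x) = algebraMap A₀ A₂ x from θ.commutes x, φ.commutes]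
      exact RingHom.congr_fun (hπσ k) x
    · show π k (ev a (MvPolynomial.X i)) = φ (θ (MvPolynomial.X i))
      rw [show ev a (MvPolynomial.X i) = r (a ≫ a₁ i) (tt i) from MvPolynomial.eval₂Hom_X' _ _ i, ← htt i]
      exact RingHom.congr_fun (hπ _) _
  have hevr : ∀ {k l : J} (b : l ⟶ k) (a : k ⟶ j₁) q, r b (ev a q) = ev (b ≫ a) q := fun {k l} b a q => by
    refine RingHom.congr_fun (f := (r b).comp (ev a)) (g := ev (b ≫ a)) ?_ q
    refine MvPolynomial.ringHom_ext (fun x => ?_) fun i => ?_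
    · show r b (ev a (MvPolynomial.C x)) = ev (b ≫ a) (MvPolynomial.C x)
      rw [show ev a (MvPolynomial.C x) = σ k x from MvPolynomial.eval₂Hom_C _ _ x,
        show ev (b ≫ a) (MvPolynomial.C x) = σ l x from MvPolynomial.eval₂Hom_C _ _ x]
      exact RingHom.congr_fun (hσ b) x
    · show r b (ev a (MvPolynomial.X i)) = ev (b ≫ a) (MvPolynomial.X i)
      rw [show ev a (MvPolynomial.X i) = r (a ≫ a₁ i) (tt i) from MvPolynomial.eval₂Hom_X' _ _ i,
        show ev (b ≫ a) (MvPolynomial.X i) = r ((b ≫ a) ≫ a₁ i) (tt i) from MvPolynomial.eval₂Hom_X' _ _ i,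
        Category.assoc]
      exact RingHom.congr_fun (hcomp b (a ≫ a₁ i)) _
  have hkill : ∀ T : Finset (MvPolynomial (Fin n) A₀), (∀ q ∈ T, θ q = 0) →
      ∃ (k : J) (a : k ⟶ j₁), ∀ q ∈ T, ev a q = 0 := by
    intro T
    induction T using Finset.induction with
    | empty => exact fun _ => ⟨j₁, 𝟙 _, by simp⟩
    | insert q T _ ih =>
      intro h
      obtain ⟨k, a, ha⟩ := ih fun z hz => h z (Finset.mem_insert_of_mem hz)
      obtain ⟨l, b, hb⟩ := hinj k (ev a q) (by rw [hevπ, h q (Finset.mem_insert_self _ _), map_zero])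
      refine ⟨l, b ≫ a, fun z hz => ?_⟩
      rw [← hevr]
      rcases Finset.mem_insert.1 hz with rfl | hz
      · exact hb
      · rw [ha z hz, map_zero]
  obtain ⟨k, a, ha⟩ := hkill S fun q hq => hS.le (Submodule.subset_span hq)
  have hker : RingHom.ker θ.toRingHom ≤ RingHom.ker (ev a) := hS ▸ Submodule.span_le.2 fun q hq => ha q hq
  refine ⟨k, RingHom.liftOfSurjective θ.toRingHom hθ ⟨ev a, hker⟩, RingHom.ext fun x => ?_, RingHom.ext fun z => ?_⟩
  · show RingHom.liftOfSurjective θ.toRingHom hθ ⟨ev a, hker⟩ (algebraMap A₀ A₂ x) = σ k x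
    rw [show algebraMap A₀ A₂ x = θ.toRingHom (MvPolynomial.C x) from (θ.commutes x).symm]
    exact (RingHom.liftOfRightInverse_comp_apply _ _ _ ⟨ev a, hker⟩ _).trans (MvPolynomial.eval₂Hom_C _ _ x)
  · obtain ⟨q, rfl⟩ := hθ z
    show π k (RingHom.liftOfSurjective θ.toRingHom hθ ⟨ev a, hker⟩ (θ.toRingHom q)) = φ (θ q)
    exact (congrArg (π k) (RingHom.liftOfRightInverse_comp_apply _ _ _ ⟨ev a, hker⟩ q)).trans (hevπ a q)

end Groth.Agent.H1FlatLimit
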