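import Groth.Agent.H1FlatLimit.FlatFP
import Mathlib

/-!
# Base changed systems and sections on an affine open at a stage
-/

universe u

set_option autoImplicit false
set_option backward.isDefEq.respectTransparency false
set_option backward.isDefEq.respectTransparency.types false
set_option linter.style.haveILetI false
set_option maxHeartbeats 1000000

open CategoryTheory CategoryTheory.Limits AlgebraicGeometry TopologicalSpace Opposite

namespace Groth.Agent.H1FlatLimit

variable {I : Type u} [SmallCategory I] (D : I ⥤ Scheme.{u}) (c : Cone D) (i₀ : I)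
  {Y₀ : Scheme.{u}} (g₀ : Y₀ ⟶ D.obj i₀)

/-- The system of base changes of `Y₀`. -/
@[simps]
noncomputable def stages : Over i₀ ⥤ Scheme.{u} where
  obj j := pullback g₀ (D.map j.hom)
  map {j k} a := pullback.lift (pullback.fst g₀ (D.map j.hom)) (pullback.snd g₀ (D.map j.hom) ≫ D.map a.left)
    (by rw [pullback.condition, Category.assoc, ← D.map_comp, Over.w a])
  map_id j := by
    apply pullback.hom_ext <;> simp
  map_comp a b := by
    apply pullback.hom_ext <;> simp

/-- The projection to the system below. -/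
@[simps]
noncomputable def stagesToBase : stages D i₀ g₀ ⟶ Over.forget i₀ ⋙ D where
  app j := pullback.snd g₀ (D.map j.hom)
  naturality j k a := by simp

theorem stages_map_fst {j k : Over i₀} (a : j ⟶ k) :
    (stages D i₀ g₀).map a ≫ pullback.fst g₀ (D.map k.hom) = pullback.fst g₀ (D.map j.hom) :=
  pullback.lift_fst _ _ _

theorem stages_isPullback {j k : Over i₀} (a : j ⟶ k) :
    IsPullback ((stages D i₀ g₀).map a) (pullback.snd g₀ (D.map j.hom)) (pullback.snd g₀ (D.map k.hom))
      (D.map a.left) := by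
  refine IsPullback.of_right ?_ ((stagesToBase D i₀ g₀).naturality a) (IsPullback.of_hasPullback g₀ (D.map k.hom))
  rw [stages_map_fst, ← D.map_comp, Over.w a]
  exact IsPullback.of_hasPullback g₀ (D.map j.hom)

instance stages_map_isAffineHom [∀ (i j : I) (φ : i ⟶ j), IsAffineHom (D.map φ)] {j k : Over i₀} (a : j ⟶ k) :
    IsAffineHom ((stages D i₀ g₀).map a) :=
  MorphismProperty.of_isPullback (P := @IsAffineHom) (stages_isPullback D i₀ g₀ a).flip inferInstance

variable {D c i₀ g₀} {Y : Scheme.{u}} {g : Y ⟶ c.pt} {qY : Y ⟶ Y₀} (hY : IsPullback qY g g₀ (c.π.app i₀))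

/-- The projection from the limit. -/
noncomputable def toStage (j : Over i₀) : Y ⟶ (stages D i₀ g₀).obj j :=
  pullback.lift qY (g ≫ c.π.app j.left) (by rw [Category.assoc, c.w, hY.w])

theorem toStage_fst (j : Over i₀) : toStage hY j ≫ pullback.fst g₀ (D.map j.hom) = qY := pullback.lift_fst _ _ _

theorem toStage_snd (j : Over i₀) : toStage hY j ≫ pullback.snd g₀ (D.map j.hom) = g ≫ c.π.app j.left :=
  pullback.lift_snd _ _ _

/-- The cone on the system. -/
@[simps]
noncomputable def stagesCone : Cone (stages D i₀ g₀) where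
  pt := Y
  π :=
    { app := toStage hY
      naturality := fun j k a => by
        dsimp only [Functor.const_obj_obj, Functor.const_obj_map]
        rw [Category.id_comp]
        refine pullback.hom_ext ?_ ?_
        · rw [Category.assoc, stages_map_fst, toStage_fst, toStage_fst]
        · rw [Category.assoc, toStage_snd, stages_map, pullback.lift_snd, ← Category.assoc, toStage_snd,
            Category.assoc, c.w] }

theorem toStage_isPullback (j : Over i₀) :
    IsPullback (toStage hY j) g (pullback.snd g₀ (D.map j.hom)) (c.π.app j.left) := by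
  refine IsPullback.of_right ?_ (toStage_snd hY j) (IsPullback.of_hasPullback g₀ (D.map j.hom))
  rw [toStage_fst, c.w]
  exact hY

attribute [local instance] CategoryTheory.isConnected_of_hasTerminal

/-- The limit of the system. -/
noncomputable def isLimitStages [IsCofiltered I] (hc : IsLimit c) : IsLimit (stagesCone hY) :=
  isLimitOfIsPullbackOfIsConnected (stagesToBase D i₀ g₀) (stagesCone hY) (c.whisker (Over.forget i₀))
    { hom := g
      w := fun j => (toStage_snd hY j).symm }
    (fun j => toStage_isPullback hY j)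
    ((Functor.Initial.isLimitWhiskerEquiv (Over.forget i₀) c).symm hc)

variable (g₀) in
/-- The trace of an open subscheme at a stage. -/
noncomputable abbrev stageOpen (V : Y₀.Opens) (j : Over i₀) : ((stages D i₀ g₀).obj j).Opens :=
  pullback.fst g₀ (D.map j.hom) ⁻¹ᵁ V

theorem stageOpen_map (V : Y₀.Opens) {j k : Over i₀} (a : j ⟶ k) :
    (stages D i₀ g₀).map a ⁻¹ᵁ stageOpen g₀ V k = stageOpen g₀ V j := by
  rw [stageOpen, ← Scheme.Hom.comp_preimage, stages_map_fst]

theorem toStage_preimage (V : Y₀.Opens) (j : Over i₀) : toStage hY j ⁻¹ᵁ stageOpen g₀ V j = qY ⁻¹ᵁ V := by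
  rw [stageOpen, ← Scheme.Hom.comp_preimage, toStage_fst]

variable [∀ (i j : I) (φ : i ⟶ j), IsAffineHom (D.map φ)] {V : Y₀.Opens} (hV : IsAffineOpen V)

include hV in
theorem isAffineOpen_stageOpen (j : Over i₀) : IsAffineOpen (stageOpen g₀ V j) :=
  haveI : IsAffineHom (pullback.fst g₀ (D.map j.hom)) :=
    MorphismProperty.of_isPullback (P := @IsAffineHom) (IsPullback.of_hasPullback g₀ (D.map j.hom)).flip inferInstance
  hV.preimage _

/-- Restriction between stages. -/
noncomputable def res (V : Y₀.Opens) {j k : Over i₀} (a : j ⟶ k) :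
    Γ((stages D i₀ g₀).obj k, stageOpen g₀ V k) ⟶ Γ((stages D i₀ g₀).obj j, stageOpen g₀ V j) :=
  ((stages D i₀ g₀).map a).appLE _ _ (stageOpen_map V a).ge

/-- Restriction to the limit. -/
noncomputable def resLim (V : Y₀.Opens) (j : Over i₀) :
    Γ((stages D i₀ g₀).obj j, stageOpen g₀ V j) ⟶ Γ(Y, qY ⁻¹ᵁ V) :=
  (toStage hY j).appLE _ _ (toStage_preimage hY V j).ge

theorem res_comp (V : Y₀.Opens) {j k l : Over i₀} (a : j ⟶ k) (b : k ⟶ l) :
    res (g₀ := g₀) V b ≫ res (g₀ := g₀) V a = res V (a ≫ b) := by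
  rw [res, res, Scheme.Hom.appLE_comp_appLE, res]
  simp only [(stages D i₀ g₀).map_comp]

theorem resLim_res (V : Y₀.Opens) {j k : Over i₀} (a : j ⟶ k) :
    res V a ≫ resLim hY V j = resLim hY V k := by
  rw [res, resLim, Scheme.Hom.appLE_comp_appLE, resLim]
  have h : toStage hY j ≫ (stages D i₀ g₀).map a = toStage hY k := (stagesCone hY).w a
  simp only [h]

variable [IsCofiltered I] (hc : IsLimit c)

include hV hc in
theorem exists_res_eq_zero (j : Over i₀) (t : Γ((stages D i₀ g₀).obj j, stageOpen g₀ V j))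
    (ht : resLim hY V j t = 0) : ∃ (k : Over i₀) (a : k ⟶ j), res V a t = 0 := by
  obtain ⟨k, a, ha⟩ := exists_app_map_eq_zero_of_isLimit _ _ (isLimitStages hY hc)
    (isAffineOpen_stageOpen (g₀ := g₀) hV j).isCompact t (by
      have h1 : (toStage hY j).app (stageOpen g₀ V j) = resLim hY V j ≫
          Y.presheaf.map (homOfLE (toStage_preimage hY V j).le).op := by
        rw [resLim, Scheme.Hom.appLE_map, Scheme.Hom.app_eq_appLE]
      show (toStage hY j).app (stageOpen g₀ V j) t = 0
      rw [h1, CommRingCat.comp_apply, ht, map_zero])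
  refine ⟨k, a, ?_⟩
  have h2 : res V a = ((stages D i₀ g₀).map a).app (stageOpen g₀ V j) ≫
      ((stages D i₀ g₀).obj k).presheaf.map (homOfLE (stageOpen_map V a).ge).op := rfl
  rw [h2, CommRingCat.comp_apply, ha, map_zero]

include hV hc in
theorem exists_resLim_eq (s : Γ(Y, qY ⁻¹ᵁ V)) :
    ∃ (j : Over i₀) (t : Γ((stages D i₀ g₀).obj j, stageOpen g₀ V j)), resLim hY V j t = s := by
  let top : Over i₀ := Over.mk (𝟙 i₀)
  let U := stageOpen g₀ V top
  haveI : ∀ k : Over top, IsAffine ((opensDiagram (stages D i₀ g₀) top U).obj k) := fun k =>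
    (isAffineOpen_stageOpen (g₀ := g₀) hV top).preimage ((stages D i₀ g₀).map k.hom)
  let Uc : Y.Opens := toStage hY top ⁻¹ᵁ U
  obtain ⟨k, t, hkt⟩ := exists_appTop_π_eq_of_isAffine_of_isLimit _ _
    (isLimitOpensCone (stages D i₀ g₀) (stagesCone hY) (isLimitStages hY hc) top U)
    (Y.presheaf.map (homOfLE (show Uc.ι ''ᵁ ⊤ ≤ qY ⁻¹ᵁ V by
      rw [Scheme.Opens.ι_image_top]; exact (toStage_preimage hY V top).le)).op s)
  let O := (stages D i₀ g₀).map k.hom ⁻¹ᵁ U
  have hO : stageOpen g₀ V k.left ≤ O.ι ''ᵁ ⊤ := by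
    rw [Scheme.Opens.ι_image_top]; exact (stageOpen_map V k.hom).ge
  refine ⟨k.left, ((stages D i₀ g₀).obj k.left).presheaf.map (homOfLE hO).op t, ?_⟩
  have hle : qY ⁻¹ᵁ V ≤ Uc.ι ''ᵁ ⊤ := by
    rw [Scheme.Opens.ι_image_top]; exact (toStage_preimage hY V top).ge
  have h1 := congrArg (fun z => Y.presheaf.map (homOfLE hle).op z) hkt
  refine Eq.trans ?_ (h1.trans ?_)
  · have hUO : Uc ≤ toStage hY k.left ⁻¹ᵁ O := by
      rw [← Scheme.Hom.comp_preimage, show toStage hY k.left ≫ (stages D i₀ g₀).map k.hom = toStage hY top from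
        (stagesCone hY).w k.hom]
    have key : ((stages D i₀ g₀).obj k.left).presheaf.map (homOfLE hO).op ≫ resLim hY V k.left =
        (toStage hY k.left).appLE (O.ι ''ᵁ ⊤) (Uc.ι ''ᵁ ⊤) (by simpa using hUO) ≫
          Y.presheaf.map (homOfLE hle).op := by
      rw [resLim, Scheme.Hom.appLE_map, Scheme.Hom.map_appLE]
    refine Eq.trans (congr($key t)) ?_
    refine congrArg (Y.presheaf.map (homOfLE hle).op) ?_
    have h3 := Scheme.Hom.resLE_appLE (f := toStage hY k.left) hUO ⊤ ⊤ le_top
    exact (congr($h3 t)).symm.trans (by rw [Scheme.Hom.appTop, Scheme.Hom.app_eq_appLE]; rfl)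
  · rw [← CommRingCat.comp_apply, ← Functor.map_comp]
    exact congrArg (fun i => Y.presheaf.map i s) (Subsingleton.elim _ (𝟙 _)) |>.trans (by rw [CategoryTheory.Functor.map_id]; rfl)

end Groth.Agent.H1FlatLimit
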