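import Groth.Agent.H1FlatLimit.Descend
import Groth.Agent.H1FlatLimit.Dict
import Groth.Agent.H1FlatLimit.Limit
import Groth.Agent.H1FlatLimit.Lift

/-!
# Stages of a limit on affine charts
-/

universe u

set_option autoImplicit false
set_option backward.isDefEq.respectTransparency false
set_option backward.isDefEq.respectTransparency.types false
set_option linter.style.haveILetI false
set_option maxHeartbeats 2000000
set_option synthInstance.maxHeartbeats 200000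

open CategoryTheory CategoryTheory.Limits AlgebraicGeometry TopologicalSpace Opposite TensorProduct

namespace Groth.Agent.H1FlatLimit

variable {X₀ Y₀ : Scheme.{u}} {f₀ : X₀ ⟶ Y₀}

/-- Going down from a stage. -/
theorem chart_backward {Xi Yi X Y : Scheme.{u}} {fi : Xi ⟶ Yi} {pX : Xi ⟶ X₀} {pY : Yi ⟶ Y₀}
    (hXi : IsPullback pX fi f₀ pY) {f : X ⟶ Y} {qX : X ⟶ X₀} {qY : Y ⟶ Y₀} (hX : IsPullback qX f f₀ qY)
    {vX : X ⟶ Xi} {vY : Y ⟶ Yi} (h1 : vY ≫ pY = qY) (h2 : vX ≫ pX = qX) (h3 : vX ≫ fi = f ≫ vY)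
    {V : Y₀.Opens} (hV : IsAffineOpen V) {U : X₀.Opens} (hU : IsAffineOpen U) (hUV : U ≤ f₀ ⁻¹ᵁ V)
    {Oi : Yi.Opens} (hOi : IsAffineOpen Oi) (hOiV : Oi ≤ pY ⁻¹ᵁ V)
    {O : Y.Opens} (hO : IsAffineOpen O) (hOV : O ≤ qY ⁻¹ᵁ V) (hOO : O ≤ vY ⁻¹ᵁ Oi)
    {M K : Type u} [AddCommGroup M] [Module Γ(X₀, U) M] [AddCommGroup K] [Module Γ(X₀, U) K]
    (u : M →ₗ[Γ(X₀, U)] K) {x : X} (hx : x ∈ qX ⁻¹ᵁ U ⊓ f ⁻¹ᵁ O) (hxi : vX x ∈ pX ⁻¹ᵁ U ⊓ fi ⁻¹ᵁ Oi)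
    (hWi : IsAffineOpen (pX ⁻¹ᵁ U ⊓ fi ⁻¹ᵁ Oi)) (hW : IsAffineOpen (qX ⁻¹ᵁ U ⊓ f ⁻¹ᵁ O)) :
    letI : Algebra Γ(X₀, U) Γ(Xi, pX ⁻¹ᵁ U ⊓ fi ⁻¹ᵁ Oi) := (pX.appLE U _ inf_le_left).hom.toAlgebra
    letI : Algebra Γ(Yi, Oi) Γ(Xi, pX ⁻¹ᵁ U ⊓ fi ⁻¹ᵁ Oi) := (fi.appLE Oi _ inf_le_right).hom.toAlgebra
    letI : Algebra Γ(X₀, U) Γ(X, qX ⁻¹ᵁ U ⊓ f ⁻¹ᵁ O) := (qX.appLE U _ inf_le_left).hom.toAlgebra
    letI : Algebra Γ(Y, O) Γ(X, qX ⁻¹ᵁ U ⊓ f ⁻¹ᵁ O) := (f.appLE O _ inf_le_right).hom.toAlgebra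
    Good Γ(Yi, Oi) u (hWi.primeIdealOf ⟨vX x, hxi⟩) → Good Γ(Y, O) u (hW.primeIdealOf ⟨x, hx⟩) := by
  subst h1 h2
  let Wi : Xi.Opens := pX ⁻¹ᵁ U ⊓ fi ⁻¹ᵁ Oi
  let W : X.Opens := (vX ≫ pX) ⁻¹ᵁ U ⊓ f ⁻¹ᵁ O
  have hWW : W ≤ vX ⁻¹ᵁ Wi := by
    intro z hz
    refine ⟨hz.1, ?_⟩
    show (vX ≫ fi) z ∈ Oi
    rw [h3]
    exact hOO hz.2
  letI : Algebra Γ(Y₀, V) Γ(X₀, U) := (f₀.appLE V U hUV).hom.toAlgebra
  letI : Algebra Γ(X₀, U) Γ(Xi, Wi) := (pX.appLE U Wi inf_le_left).hom.toAlgebra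
  letI : Algebra Γ(Yi, Oi) Γ(Xi, Wi) := (fi.appLE Oi Wi inf_le_right).hom.toAlgebra
  letI : Algebra Γ(X₀, U) Γ(X, W) := ((vX ≫ pX).appLE U W inf_le_left).hom.toAlgebra
  letI : Algebra Γ(Y, O) Γ(X, W) := (f.appLE O W inf_le_right).hom.toAlgebra
  letI : Algebra Γ(Y₀, V) Γ(Yi, Oi) := (pY.appLE V Oi hOiV).hom.toAlgebra
  letI : Algebra Γ(Y₀, V) Γ(Y, O) := ((vY ≫ pY).appLE V O hOV).hom.toAlgebra
  letI : Algebra Γ(Y₀, V) Γ(Xi, Wi) := (f₀.appLE V U hUV ≫ pX.appLE U Wi inf_le_left).hom.toAlgebra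
  letI : Algebra Γ(Y₀, V) Γ(X, W) := (f₀.appLE V U hUV ≫ (vX ≫ pX).appLE U W inf_le_left).hom.toAlgebra
  obtain ⟨_, _, _⟩ := chart_isPushout hXi hV hU hUV hOi hOiV
  obtain ⟨_, _, _⟩ := chart_isPushout hX hV hU hUV hO hOV
  letI : Algebra Γ(Yi, Oi) Γ(Y, O) := (vY.appLE Oi O hOO).hom.toAlgebra
  letI : Algebra Γ(Xi, Wi) Γ(X, W) := (vX.appLE Wi W hWW).hom.toAlgebra
  letI : Algebra Γ(Yi, Oi) Γ(X, W) := ((f ≫ vY).appLE Oi W (by rw [← h3]; exact fun z hz => (hWW hz).2)).hom.toAlgebra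
  haveI : IsScalarTower Γ(Yi, Oi) Γ(Y, O) Γ(X, W) := IsScalarTower.of_algebraMap_eq fun a => by
    show _ = f.appLE O W inf_le_right (vY.appLE Oi O hOO a)
    rw [← CommRingCat.comp_apply, Scheme.Hom.appLE_comp_appLE]
    rfl
  haveI : IsScalarTower Γ(Yi, Oi) Γ(Xi, Wi) Γ(X, W) := IsScalarTower.of_algebraMap_eq fun a => by
    show _ = vX.appLE Wi W hWW (fi.appLE Oi Wi inf_le_right a)
    rw [← CommRingCat.comp_apply, Scheme.Hom.appLE_comp_appLE]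
    simp only [h3]
    rfl
  haveI : IsScalarTower Γ(X₀, U) Γ(Xi, Wi) Γ(X, W) := IsScalarTower.of_algebraMap_eq fun a => by
    show _ = vX.appLE Wi W hWW (pX.appLE U Wi inf_le_left a)
    rw [← CommRingCat.comp_apply, Scheme.Hom.appLE_comp_appLE]
    rfl
  haveI : IsScalarTower Γ(Y₀, V) Γ(Yi, Oi) Γ(Y, O) := IsScalarTower.of_algebraMap_eq fun a => by
    show _ = vY.appLE Oi O hOO (pY.appLE V Oi hOiV a)
    rw [← CommRingCat.comp_apply, Scheme.Hom.appLE_comp_appLE]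
    rfl
  haveI : IsScalarTower Γ(Y₀, V) Γ(Xi, Wi) Γ(X, W) := IsScalarTower.of_algebraMap_eq fun a => by
    show algebraMap Γ(X₀, U) Γ(X, W) (f₀.appLE V U hUV a) = algebraMap Γ(Xi, Wi) Γ(X, W) (algebraMap Γ(X₀, U) Γ(Xi, Wi) (f₀.appLE V U hUV a))
    exact IsScalarTower.algebraMap_apply _ _ _ _
  haveI : Algebra.IsPushout Γ(Yi, Oi) Γ(Y, O) Γ(Xi, Wi) Γ(X, W) :=
    (Algebra.IsPushout.comp_iff Γ(Y₀, V) Γ(Yi, Oi) Γ(X₀, U) Γ(Xi, Wi)).1 ‹_›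
  intro hgood
  refine Good.baseChange (A := Γ(Yi, Oi)) (C := Γ(Xi, Wi)) _ ?_
  have hq : PrimeSpectrum.comap (algebraMap Γ(Xi, Wi) Γ(X, W)) (hW.primeIdealOf ⟨x, hx⟩) =
      hWi.primeIdealOf ⟨vX x, hxi⟩ := IsAffineOpen.comap_primeIdealOf_appLE Wi hWi W hW hWW hx
  rw [hq]
  exact hgood

section forward

variable {I : Type u} [SmallCategory I] [IsCofiltered I] {D : I ⥤ Scheme.{u}} {c : Cone D} (hc : IsLimit c) {i₀ : I}
  [∀ (i j : I) (φ : i ⟶ j), IsAffineHom (D.map φ)] {g₀ : Y₀ ⟶ D.obj i₀}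
  {X Y : Scheme.{u}} {f : X ⟶ Y} {g : Y ⟶ c.pt} {qY : Y ⟶ Y₀} {qX : X ⟶ X₀}
  (hY : IsPullback qY g g₀ (c.π.app i₀)) (hX : IsPullback qX f f₀ qY)

/-- The comparison with the base change at a stage. -/
noncomputable def toStageX (j : Over i₀) : X ⟶ pullback f₀ (pullback.fst g₀ (D.map j.hom)) :=
  pullback.lift qX (f ≫ toStage hY j) (by rw [Category.assoc, toStage_fst, hX.w])

theorem toStageX_fst (j : Over i₀) : toStageX hY hX j ≫ pullback.fst f₀ (pullback.fst g₀ (D.map j.hom)) = qX :=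
  pullback.lift_fst _ _ _

theorem toStageX_snd (j : Over i₀) :
    toStageX hY hX j ≫ pullback.snd f₀ (pullback.fst g₀ (D.map j.hom)) = f ≫ toStage hY j :=
  pullback.lift_snd _ _ _

theorem toStageX_mem {V : Y₀.Opens} {U : X₀.Opens} (hUV : U ≤ f₀ ⁻¹ᵁ V) (j : Over i₀) {x : X} (hxU : qX x ∈ U) :
    toStageX hY hX j x ∈ pullback.fst f₀ (pullback.fst g₀ (D.map j.hom)) ⁻¹ᵁ U ⊓
      pullback.snd f₀ (pullback.fst g₀ (D.map j.hom)) ⁻¹ᵁ stageOpen g₀ V j := by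
  refine ⟨?_, ?_⟩
  · show (toStageX hY hX j ≫ pullback.fst f₀ (pullback.fst g₀ (D.map j.hom))) x ∈ U
    rw [toStageX_fst]
    exact hxU
  · show (toStageX hY hX j ≫ pullback.snd f₀ (pullback.fst g₀ (D.map j.hom)) ≫ pullback.fst g₀ (D.map j.hom)) x ∈ V
    rw [← pullback.condition, ← Category.assoc, toStageX_fst]
    exact hUV hxU

include hc hY hX in
/-- Reaching a stage. -/
theorem chart_forward [LocallyOfFinitePresentation f₀] {V : Y₀.Opens} (hV : IsAffineOpen V) {U : X₀.Opens}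
    (hU : IsAffineOpen U) (hUV : U ≤ f₀ ⁻¹ᵁ V) (hO : IsAffineOpen (qY ⁻¹ᵁ V))
    {M K : Type u} [AddCommGroup M] [Module Γ(X₀, U) M] [Module.Finite Γ(X₀, U) M] [AddCommGroup K]
    [Module Γ(X₀, U) K] [Module.FinitePresentation Γ(X₀, U) K] (u : M →ₗ[Γ(X₀, U)] K) {x : X}
    (hx : x ∈ qX ⁻¹ᵁ U ⊓ f ⁻¹ᵁ (qY ⁻¹ᵁ V)) (hW : IsAffineOpen (qX ⁻¹ᵁ U ⊓ f ⁻¹ᵁ (qY ⁻¹ᵁ V))) :
    letI : Algebra Γ(X₀, U) Γ(X, qX ⁻¹ᵁ U ⊓ f ⁻¹ᵁ (qY ⁻¹ᵁ V)) := (qX.appLE U _ inf_le_left).hom.toAlgebra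
    letI : Algebra Γ(Y, qY ⁻¹ᵁ V) Γ(X, qX ⁻¹ᵁ U ⊓ f ⁻¹ᵁ (qY ⁻¹ᵁ V)) :=
      (f.appLE (qY ⁻¹ᵁ V) _ inf_le_right).hom.toAlgebra
    Good Γ(Y, qY ⁻¹ᵁ V) u (hW.primeIdealOf ⟨x, hx⟩) →
      ∃ (j : Over i₀) (hWj : IsAffineOpen (pullback.fst f₀ (pullback.fst g₀ (D.map j.hom)) ⁻¹ᵁ U ⊓
          pullback.snd f₀ (pullback.fst g₀ (D.map j.hom)) ⁻¹ᵁ stageOpen g₀ V j)),
        letI : Algebra Γ(X₀, U) Γ(pullback f₀ (pullback.fst g₀ (D.map j.hom)), pullback.fst f₀ (pullback.fst g₀ (D.map j.hom)) ⁻¹ᵁ U ⊓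
            pullback.snd f₀ (pullback.fst g₀ (D.map j.hom)) ⁻¹ᵁ stageOpen g₀ V j) :=
          ((pullback.fst f₀ (pullback.fst g₀ (D.map j.hom))).appLE U _ inf_le_left).hom.toAlgebra
        letI : Algebra Γ((stages D i₀ g₀).obj j, stageOpen g₀ V j) Γ(pullback f₀ (pullback.fst g₀ (D.map j.hom)), pullback.fst f₀ (pullback.fst g₀ (D.map j.hom)) ⁻¹ᵁ U ⊓
            pullback.snd f₀ (pullback.fst g₀ (D.map j.hom)) ⁻¹ᵁ stageOpen g₀ V j) :=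
          ((pullback.snd f₀ (pullback.fst g₀ (D.map j.hom))).appLE (stageOpen g₀ V j) _ inf_le_right).hom.toAlgebra
        Good Γ((stages D i₀ g₀).obj j, stageOpen g₀ V j) u (hWj.primeIdealOf ⟨toStageX hY hX j x, toStageX_mem hY hX hUV j hx.1⟩) := by
  let O : Y.Opens := qY ⁻¹ᵁ V
  let W : X.Opens := qX ⁻¹ᵁ U ⊓ f ⁻¹ᵁ O
  letI : Algebra Γ(Y₀, V) Γ(X₀, U) := (f₀.appLE V U hUV).hom.toAlgebra
  haveI : Algebra.FinitePresentation Γ(Y₀, V) Γ(X₀, U) := f₀.finitePresentation_appLE hV hU hUV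
  letI : Algebra Γ(Y₀, V) Γ(Y, O) := (qY.appLE V O le_rfl).hom.toAlgebra
  letI : Algebra Γ(X₀, U) Γ(X, W) := (qX.appLE U W inf_le_left).hom.toAlgebra
  letI : Algebra Γ(Y, O) Γ(X, W) := (f.appLE O W inf_le_right).hom.toAlgebra
  letI : Algebra Γ(Y₀, V) Γ(X, W) := (f₀.appLE V U hUV ≫ qX.appLE U W inf_le_left).hom.toAlgebra
  obtain ⟨_, _, _⟩ := chart_isPushout hX hV hU hUV hO le_rfl
  intro hgood
  obtain ⟨A₂, _, _, φ₂, hA₂, hstage⟩ := exists_good_fp (A₀ := Γ(Y₀, V)) (A := Γ(Y, O)) u (hW.primeIdealOf ⟨x, hx⟩) hgood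
  haveI := hA₂
  obtain ⟨j, ψ, hψσ, hψπ⟩ := exists_stage_lift (fun j : Over i₀ => ↑Γ((stages D i₀ g₀).obj j, stageOpen g₀ V j))
    (fun a => (res V a).hom) (fun a b => by rw [← CommRingCat.hom_comp, res_comp])
    (A := Γ(Y, O)) (fun j => ((pullback.fst g₀ (D.map j.hom)).appLE V (stageOpen g₀ V j) le_rfl).hom)
    (fun a => by
      rw [← CommRingCat.hom_comp, res, Scheme.Hom.appLE_comp_appLE]
      simp only [stages_map_fst])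
    (fun j => (resLim hY V j).hom) (fun a => by rw [← CommRingCat.hom_comp, resLim_res])
    (fun j => by
      rw [← CommRingCat.hom_comp, resLim, Scheme.Hom.appLE_comp_appLE]
      simp only [toStage_fst]
      rfl)
    (fun s => exists_resLim_eq hY hV hc s) (fun j t ht => exists_res_eq_zero hY hV hc j t ht) φ₂
  let pY := pullback.fst g₀ (D.map j.hom)
  let pX := pullback.fst f₀ pY
  let fj := pullback.snd f₀ pY
  let Oj : (pullback g₀ (D.map j.hom)).Opens := stageOpen g₀ V j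
  let Wj := pX ⁻¹ᵁ U ⊓ fj ⁻¹ᵁ Oj
  have hOj : IsAffineOpen Oj := isAffineOpen_stageOpen hV j
  have hXj : IsPullback pX fj f₀ pY := IsPullback.of_hasPullback f₀ pY
  have hWj : IsAffineOpen Wj := isAffineOpen_inf hXj hV hU hUV hOj le_rfl
  refine ⟨j, hWj, ?_⟩
  letI : Algebra Γ(Y₀, V) Γ(pullback g₀ (D.map j.hom), Oj) := (pY.appLE V Oj le_rfl).hom.toAlgebra
  letI : Algebra Γ(X₀, U) Γ(pullback f₀ pY, Wj) := (pX.appLE U Wj inf_le_left).hom.toAlgebra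
  letI : Algebra Γ(pullback g₀ (D.map j.hom), Oj) Γ(pullback f₀ pY, Wj) := (fj.appLE Oj Wj inf_le_right).hom.toAlgebra
  letI : Algebra Γ(Y₀, V) Γ(pullback f₀ pY, Wj) := (f₀.appLE V U hUV ≫ pX.appLE U Wj inf_le_left).hom.toAlgebra
  obtain ⟨_, _, _⟩ := chart_isPushout hXj hV hU hUV hOj (le_refl (pY ⁻¹ᵁ V))
  let vX := toStageX hY hX j
  have hWW : W ≤ vX ⁻¹ᵁ Wj := fun z hz => toStageX_mem hY hX hUV j hz.1
  let γ : Γ(pullback f₀ pY, Wj) →+* Γ(X, W) := (vX.appLE Wj W hWW).hom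
  have hOO : O ≤ toStage hY j ⁻¹ᵁ Oj := (toStage_preimage hY V j).ge
  have hγO : ∀ b : Γ(pullback g₀ (D.map j.hom), Oj), γ (algebraMap Γ(pullback g₀ (D.map j.hom), Oj) Γ(pullback f₀ pY, Wj) b) =
      algebraMap Γ(Y, O) Γ(X, W) (resLim hY V j b) := fun b => by
    show vX.appLE Wj W hWW (fj.appLE Oj Wj inf_le_right b) = f.appLE O W inf_le_right (resLim hY V j b)
    rw [resLim, ← CommRingCat.comp_apply, ← CommRingCat.comp_apply, Scheme.Hom.appLE_comp_appLE,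
      Scheme.Hom.appLE_comp_appLE]
    simp only [vX, fj, pY, toStageX_snd]
    rfl
  have hγU : ∀ b : Γ(X₀, U), γ (algebraMap Γ(X₀, U) Γ(pullback f₀ pY, Wj) b) = algebraMap Γ(X₀, U) Γ(X, W) b := fun b => by
    show vX.appLE Wj W hWW (pX.appLE U Wj inf_le_left b) = qX.appLE U W inf_le_left b
    rw [← CommRingCat.comp_apply, Scheme.Hom.appLE_comp_appLE]
    simp only [vX, pX, pY, toStageX_fst]
  have key := hstage Γ(pullback g₀ (D.map j.hom), Oj) Γ(pullback f₀ pY, Wj) { ψ with commutes' := fun a => RingHom.congr_fun hψσ a } γ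
    (fun a => (hγO (ψ a)).trans (congrArg (algebraMap Γ(Y, O) Γ(X, W)) (RingHom.congr_fun hψπ a))) hγU
  have hq : PrimeSpectrum.comap γ (hW.primeIdealOf ⟨x, hx⟩) =
      hWj.primeIdealOf ⟨vX x, hWW hx⟩ := IsAffineOpen.comap_primeIdealOf_appLE Wj hWj W hW hWW hx
  rw [hq] at key
  exact key

end forward

end Groth.Agent.H1FlatLimit
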