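import Groth.Agent.H1FibInj.General
import Groth.Agent.W4Lib.Flat
import Groth.Agent.FlatLoc6.Loc
import Mathlib

/-!
# Injectivity with flat cokernel under base change
-/

universe u

set_option autoImplicit false
set_option linter.style.haveILetI false
set_option maxHeartbeats 1000000
set_option synthInstance.maxHeartbeats 100000

open TensorProduct

namespace Groth.Agent.H1FlatLimit

section retraction

variable {C L T X : Type u} [CommRing C] [CommRing L] [CommRing T] [Algebra C L] [Algebra C T]
  [AddCommGroup X] [Module C X] (φ : L →ₐ[C] T)

/-- Multiplying back along a factorisation of an algebra. -/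
noncomputable def back : T ⊗[C] (L ⊗[C] X) →ₗ[T] T ⊗[C] X :=
  TensorProduct.AlgebraTensorModule.lift
    { toFun := fun t => TensorProduct.lift
        { toFun := fun l => TensorProduct.mk C T X (t * φ l)
          map_add' := fun a b => by rw [map_add, mul_add, map_add]
          map_smul' := fun r a => by rw [map_smul, mul_smul_comm, map_smul]; rfl }
      map_add' := fun a b => TensorProduct.ext' fun l x => by simp [add_mul, add_tmul]
      map_smul' := fun r a => TensorProduct.ext' fun l x => by simp [smul_tmul', mul_assoc] }

@[simp] theorem back_tmul (t : T) (l : L) (x : X) : back φ (t ⊗ₜ[C] (l ⊗ₜ[C] x)) = (t * φ l) ⊗ₜ[C] x := by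
  simp [back]

theorem back_mk (z : T ⊗[C] X) : back φ ((TensorProduct.mk C L X 1).lTensor T z) = z := by
  induction z using TensorProduct.induction_on with
  | zero => simp
  | tmul t x => simp
  | add a b ha hb => rw [map_add, map_add, ha, hb]

include φ in
/-- Injectivity may be tested after passing to an algebra through which `T` factors. -/
theorem injective_of_factor {Y : Type u} [AddCommGroup Y] [Module C Y] (u : X →ₗ[C] Y)
    (h : Function.Injective ((u.lTensor L).lTensor T)) : Function.Injective (u.lTensor T) := by
  have hnat : (u.lTensor L).lTensor T ∘ₗ (TensorProduct.mk C L X 1).lTensor T =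
      (TensorProduct.mk C L Y 1).lTensor T ∘ₗ u.lTensor T := by
    refine TensorProduct.ext' fun t x => ?_
    simp
  intro a b hab
  have h1 : (TensorProduct.mk C L X 1).lTensor T a = (TensorProduct.mk C L X 1).lTensor T b := h <| by
    have ha := LinearMap.congr_fun hnat a
    have hb := LinearMap.congr_fun hnat b
    simp only [LinearMap.comp_apply] at ha hb
    rw [ha, hb, hab]
  rw [← back_mk φ a, h1, back_mk]

end retraction

variable {A A' C C' T : Type u} [CommRing A] [CommRing A'] [CommRing C] [CommRing C'] [CommRing T]
  [Algebra A C] [Algebra A A'] [Algebra A C'] [Algebra A' C'] [Algebra C C'] [IsScalarTower A C C']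
  [IsScalarTower A A' C'] [Algebra.IsPushout A A' C C'] [Algebra C' T] [Algebra C T] [IsScalarTower C C' T]
  [Module.Flat C' T]

variable (A A' C') in
include A A' C' in
/-- An injection with flat cokernel stays injective after base change and a flat extension. -/
theorem injective_of_flat_coker {X Y : Type u} [AddCommGroup X] [Module C X] [AddCommGroup Y] [Module C Y]
    [Module A Y] [IsScalarTower A C Y] (ι : X →ₗ[C] Y) (hι : Function.Injective ι)
    [Module.Flat A (Y ⧸ LinearMap.range ι)] : Function.Injective (ι.lTensor T) := by
  letI : Module A X := Module.compHom X (algebraMap A C)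
  haveI : IsScalarTower A C X := IsScalarTower.of_algebraMap_smul fun _ _ => rfl
  let π := (LinearMap.range ι).mkQ
  have h1 := W4Lib.lTensor_injective_of_flat_quotient (f := ι.restrictScalars A) (g := π.restrictScalars A) hι
    (LinearMap.exact_map_mkQ_range ι) (Submodule.mkQ_surjective _) A'
  let eX := Algebra.IsPushout.cancelBaseChange A A' C C' X
  let eY := Algebra.IsPushout.cancelBaseChange A A' C C' Y
  have hnat : ∀ z, (ι.restrictScalars A).lTensor A' z = eY (ι.lTensor C' (eX.symm z)) := by
    intro z
    induction z using TensorProduct.induction_on with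
    | zero => simp
    | tmul s m =>
      rw [LinearMap.lTensor_tmul, show eX.symm (s ⊗ₜ m) = algebraMap A' C' s ⊗ₜ[C] m from
        Algebra.IsPushout.cancelBaseChange_symm_tmul A A' C C' X s m, LinearMap.lTensor_tmul,
        ← Algebra.IsPushout.cancelBaseChange_symm_tmul A A' C C' Y s (ι m), LinearEquiv.apply_symm_apply]
      rfl
    | add a b ha hb => simp only [map_add, ha, hb]
  have h2 : Function.Injective (ι.lTensor C') := by
    intro a b hab
    obtain ⟨a, rfl⟩ := eX.symm.surjective a
    obtain ⟨b, rfl⟩ := eX.symm.surjective b
    exact congrArg _ (h1 (by rw [hnat, hnat, hab]))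
  rw [← H1RectCons.injective_lTensor_cancel (S := C') (T := T) ι]
  exact Module.Flat.lTensor_preserves_injective_linearMap (R := C') (ι.baseChange C') h2

variable (A A' C') in
include A A' C' in
/-- Flatness of a localized module is inherited along base change. -/
theorem flat_of_flat {L X : Type u} [CommRing L] [Algebra C L] [AddCommGroup X] [Module C X] (φ : L →ₐ[C] T)
    [Algebra A L] [IsScalarTower A C L] [Algebra A' T] [IsScalarTower A' C' T]
    [Module.Flat A (L ⊗[C] X)] : Module.Flat A' (T ⊗[C] X) := by
  haveI : Module.Flat A' (C' ⊗[C] (L ⊗[C] X)) :=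
    Module.Flat.of_linearEquiv (Algebra.IsPushout.cancelBaseChange A A' C C' (L ⊗[C] X))
  haveI : Module.Flat A' (T ⊗[C'] (C' ⊗[C] (L ⊗[C] X))) := FlatLoc6.flat_baseChange_left _
  let e := (TensorProduct.AlgebraTensorModule.cancelBaseChange C C' T T (L ⊗[C] X)).restrictScalars A'
  haveI : Module.Flat A' (T ⊗[C] (L ⊗[C] X)) := Module.Flat.of_linearEquiv e.symm
  exact Module.Flat.of_retract
    (((TensorProduct.AlgebraTensorModule.lTensor T T (TensorProduct.mk C L X 1))).restrictScalars A')
    ((back φ).restrictScalars A') (LinearMap.ext fun z => back_mk φ z)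

end Groth.Agent.H1FlatLimit
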